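import Mathlib

/-!
# Layers of a nilpotent subspace of an algebra

If a layer of the powers of a subspace has dimension at most two, so does the next one.
-/

set_option autoImplicit false
set_option linter.unusedSectionVars false

namespace Cfsg.Lib.Blocks.RankOneFive

open Module

section RankOne

variable {k V W U : Type*} [Field k] [AddCommGroup V] [Module k V] [AddCommGroup W] [Module k W]
  [AddCommGroup U] [Module k U]

/-- A linear family of maps of rank at most one has a common image line or a common kernel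
hyperplane. -/
theorem common_of_rank_le_one (β : V →ₗ[k] W →ₗ[k] U)
    (h : ∀ v, ∃ u, ∀ w, β v w ∈ Submodule.span k {u}) :
    (∃ u, ∀ v w, β v w ∈ Submodule.span k {u}) ∨
      ∃ w₀, ∀ w, ∃ c : k, ∀ v, β v (w - c • w₀) = 0 := by
  classical
  by_cases h0 : ∀ v w, β v w = 0
  · exact Or.inl ⟨0, fun v w => by simp [h0 v w]⟩
  push Not at h0
  obtain ⟨g, w₀, hu⟩ := h0
  set u := β g w₀
  have hline : ∀ v w, β v w ≠ 0 → ∀ w', β v w' ∈ Submodule.span k {β v w} := by
    intro v w hvw w'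
    obtain ⟨u', hu'⟩ := h v
    obtain ⟨a, ha⟩ := Submodule.mem_span_singleton.1 (hu' w)
    obtain ⟨b, hb⟩ := Submodule.mem_span_singleton.1 (hu' w')
    have ha0 : a ≠ 0 := fun h => hvw (by rw [← ha, h, zero_smul])
    exact Submodule.mem_span_singleton.2 ⟨b / a, by rw [← ha, smul_smul, div_mul_cancel₀ _ ha0, hb]⟩
  have hker : ∀ w, ∃ c : k, β g (w - c • w₀) = 0 := fun w => by
    obtain ⟨c, hc⟩ := Submodule.mem_span_singleton.1 (hline g w₀ hu w)
    exact ⟨c, by rw [map_sub, map_smul, hc, sub_self]⟩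
  by_cases hall : ∀ v w, β g w = 0 → β v w = 0
  · exact Or.inr ⟨w₀, fun w => (hker w).imp fun c hc v => hall v _ hc⟩
  push Not at hall
  obtain ⟨g', z, hgz, hg'z⟩ := hall
  left
  refine ⟨u, fun v w => ?_⟩
  set u' := β g' z with hu'
  have hg'u : ∀ w, β g' w ∈ Submodule.span k {u} := by
    have e1 : β (g + g') z = u' := by rw [map_add, LinearMap.add_apply, hgz, zero_add]
    obtain ⟨a, ha⟩ := Submodule.mem_span_singleton.1 (hline (g + g') z (by rwa [e1]) w₀)
    obtain ⟨b, hb⟩ := Submodule.mem_span_singleton.1 (hline g' z hg'z w₀)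
    rw [e1, map_add, LinearMap.add_apply, ← hb] at ha
    have hu2 : u = (a - b) • u' := by rw [sub_smul, ha, ← hu']; abel
    have hab : a - b ≠ 0 := fun h => hu (by rw [hu2, h, zero_smul])
    intro w
    obtain ⟨c, hc⟩ := Submodule.mem_span_singleton.1 (hline g' z hg'z w)
    refine Submodule.mem_span_singleton.2 ⟨c / (a - b), ?_⟩
    rw [hu2, smul_smul, div_mul_cancel₀ _ hab, hc]
  have hu'u : ∃ a : k, a • u = u' ∧ a ≠ 0 := by
    obtain ⟨a, ha⟩ := Submodule.mem_span_singleton.1 (hg'u z)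
    exact ⟨a, ha, fun h => hg'z (ha.symm.trans (by rw [h, zero_smul]))⟩
  obtain ⟨a, ha, ha0⟩ := hu'u
  by_cases hvz : β v z = 0
  · have e1 : β (v + g') z = u' := by rw [map_add, LinearMap.add_apply, hvz, zero_add]
    obtain ⟨b, hb⟩ := Submodule.mem_span_singleton.1 (hline (v + g') z (by rwa [e1]) w)
    rw [e1, map_add, LinearMap.add_apply, ← ha, smul_smul] at hb
    have e2 : β v w = (b * a) • u - β g' w := by rw [hb]; abel
    rw [e2]
    exact sub_mem (Submodule.smul_mem _ _ (Submodule.mem_span_singleton_self u)) (hg'u w)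
  · have hgv : β v z ∈ Submodule.span k {u} := by
      have e1 : β (g + v) z = β v z := by rw [map_add, LinearMap.add_apply, hgz, zero_add]
      obtain ⟨b, hb⟩ := Submodule.mem_span_singleton.1 (hline (g + v) z (by rwa [e1]) w₀)
      obtain ⟨c, hc⟩ := Submodule.mem_span_singleton.1 (hline v z hvz w₀)
      rw [e1, map_add, LinearMap.add_apply, ← hc] at hb
      have hu3 : u = (b - c) • β v z := by rw [sub_smul, hb]; abel
      have hbc : b - c ≠ 0 := fun h => hu (by rw [hu3, h, zero_smul])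
      exact Submodule.mem_span_singleton.2
        ⟨(b - c)⁻¹, by rw [hu3, smul_smul, inv_mul_cancel₀ hbc, one_smul]⟩
    obtain ⟨c, hc⟩ := Submodule.mem_span_singleton.1 (hline v z hvz w)
    rw [← hc]
    exact Submodule.smul_mem _ _ hgv

/-- A space of dimension at most two is spanned by two of its elements. -/
theorem exists_two_span [FiniteDimensional k V] (S : Submodule k V) (h : finrank k S ≤ 2) :
    ∃ a ∈ S, ∃ b ∈ S, S ≤ Submodule.span k {a, b} := by
  by_cases h0 : S = ⊥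
  · exact ⟨0, S.zero_mem, 0, S.zero_mem, h0 ▸ bot_le⟩
  obtain ⟨a, ha, ha0⟩ := S.exists_mem_ne_zero_of_ne_bot h0
  by_cases h1 : S ≤ Submodule.span k {a}
  · exact ⟨a, ha, a, ha, h1.trans (Submodule.span_mono (by simp))⟩
  obtain ⟨b, hb, hba⟩ := SetLike.not_le_iff_exists.1 h1
  refine ⟨a, ha, b, hb, le_of_eq (Submodule.eq_of_le_of_finrank_le ?_ (h.trans ?_)).symm⟩
  · exact Submodule.span_le.2 (Set.insert_subset ha (Set.singleton_subset_iff.2 hb))
  · have hlt : Submodule.span k {a} < Submodule.span k {a, b} := lt_of_le_of_ne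
      (Submodule.span_mono (by simp)) fun h => hba (h ▸ Submodule.subset_span (by simp))
    have := Submodule.finrank_lt_finrank_of_lt hlt
    rw [finrank_span_singleton ha0] at this
    omega

theorem finrank_map_mkQ [FiniteDimensional k V] (P Q : Submodule k V) (h : P ≤ Q) :
    finrank k (Q.map P.mkQ) + finrank k P = finrank k Q := by
  have h1 := LinearMap.finrank_range_add_finrank_ker (P.mkQ.domRestrict Q)
  rwa [LinearMap.range_domRestrict, LinearMap.ker_domRestrict, Submodule.ker_mkQ,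
    (Submodule.comapSubtypeEquivOfLe h).finrank_eq] at h1

theorem finrank_map_mkQ_le_card [FiniteDimensional k V] (P Q : Submodule k V) (S : Finset V)
    (h : Q ≤ Submodule.span k (S : Set V) ⊔ P) : finrank k (Q.map P.mkQ) ≤ S.card := by
  classical
  refine le_trans (Submodule.finrank_mono (t := Submodule.span k (S.image P.mkQ : Set (V ⧸ P))) ?_)
    ((finrank_span_finset_le_card _).trans Finset.card_image_le)
  rw [Finset.coe_image, Submodule.span_image]
  refine (Submodule.map_mono h).trans ?_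
  rw [Submodule.map_sup, Submodule.mkQ_map_self, sup_bot_eq]

end RankOne

section Powers

variable {k R : Type*} [Field k] [Ring R] [Algebra k R] [FiniteDimensional k R] (N : Submodule k R)

theorem pow_succ_le_pow (hN2 : N * N ≤ N) {m : ℕ} (hm : 1 ≤ m) : N ^ (m + 1) ≤ N ^ m := by
  obtain ⟨j, rfl⟩ := Nat.exists_eq_add_of_le hm
  rw [add_comm 1 j, pow_succ, pow_succ, mul_assoc]
  exact Submodule.mul_le.2 fun a ha b hb => Submodule.mul_mem_mul ha (hN2 hb)

theorem pow_le_pow_of_le (hN2 : N * N ≤ N) {m n : ℕ} (hm : 1 ≤ m) (h : m ≤ n) : N ^ n ≤ N ^ m := by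
  induction n, h using Nat.le_induction with
  | base => exact le_rfl
  | succ n hn ih => exact (pow_succ_le_pow N hN2 (hm.trans hn)).trans ih

theorem pow_le_self' (hN2 : N * N ≤ N) {m : ℕ} (hm : 1 ≤ m) : N ^ m ≤ N :=
  (pow_le_pow_of_le N hN2 le_rfl hm).trans (le_of_eq (pow_one N))

theorem mul_mem_pow {a b : R} {m n : ℕ} (ha : a ∈ N ^ m) (hb : b ∈ N ^ n) : a * b ∈ N ^ (m + n) := by
  rw [pow_add]; exact Submodule.mul_mem_mul ha hb

theorem pow_add_le {m n : ℕ} {S T : Submodule k R} (hm : N ^ m ≤ S) (hn : N ^ n ≤ T) :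
    N ^ (m + n) ≤ S * T := by
  rw [pow_add]
  exact Submodule.mul_le.2 fun a ha b hb => Submodule.mul_mem_mul (hm ha) (hn hb)

/-- The dimension of a layer. -/
noncomputable def layerDim (m : ℕ) : ℕ := finrank k ((N ^ m).map (N ^ (m + 1)).mkQ)

theorem finrank_pow (hN2 : N * N ≤ N) {m : ℕ} (hm : 1 ≤ m) :
    finrank k (N ^ m : Submodule k R) = layerDim N m + finrank k (N ^ (m + 1) : Submodule k R) :=
  (finrank_map_mkQ _ _ (pow_succ_le_pow N hN2 hm)).symm

theorem layerDim_le {m : ℕ} {S : Finset R} (h : N ^ m ≤ Submodule.span k S ⊔ N ^ (m + 1)) :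
    layerDim N m ≤ S.card :=
  finrank_map_mkQ_le_card _ _ S h

theorem exists_two_of_layerDim {m : ℕ} (h : layerDim N m ≤ 2) :
    ∃ a b, N ^ m ≤ Submodule.span k {a, b} ⊔ N ^ (m + 1) := by
  obtain ⟨a, ha, b, hb, hab⟩ := exists_two_span ((N ^ m).map (N ^ (m + 1)).mkQ) h
  obtain ⟨a', -, rfl⟩ := Submodule.mem_map.1 ha
  obtain ⟨b', -, rfl⟩ := Submodule.mem_map.1 hb
  refine ⟨a', b', ?_⟩
  rw [← Submodule.ker_mkQ (N ^ (m + 1)), ← Submodule.comap_map_eq, ← Submodule.map_le_iff_le_comap,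
    Submodule.map_span, Set.image_pair]
  exact hab

/-- **Small layers stay small.** -/
theorem layerDim_succ_le (hN2 : N * N ≤ N) {m : ℕ} (hm : 2 ≤ m) {c : ℕ} (hc : c ≤ 2)
    (h : layerDim N m ≤ c) : layerDim N (m + 1) ≤ c := by
  classical
  obtain ⟨j, rfl⟩ : ∃ j, m = j + 1 := ⟨m - 1, by omega⟩
  have hj : 1 ≤ j := by omega
  set q1 := (N ^ (j + 1 + 1)).mkQ
  set q2 := (N ^ (j + 1 + 1 + 1)).mkQ
  set G := (N ^ (j + 1)).map q1
  have hq1 : ∀ {a}, q1 a = 0 ↔ a ∈ N ^ (j + 1 + 1) := fun {a} => Submodule.Quotient.mk_eq_zero _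
  -- right multiplication by an element raises the level
  have hR : ∀ x ∈ N, N ^ (j + 1 + 1) ≤ LinearMap.ker (q2.comp (LinearMap.mulRight k x)) := by
    intro x hx a ha
    rw [LinearMap.mem_ker, LinearMap.comp_apply, LinearMap.mulRight_apply]
    exact (Submodule.Quotient.mk_eq_zero _).2 (by rw [pow_succ]; exact Submodule.mul_mem_mul ha hx)
  have hL : ∀ x ∈ N, N ^ (j + 1 + 1) ≤ LinearMap.ker (q2.comp (LinearMap.mulLeft k x)) := by
    intro x hx a ha
    rw [LinearMap.mem_ker, LinearMap.comp_apply, LinearMap.mulLeft_apply]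
    exact (Submodule.Quotient.mk_eq_zero _).2 (by rw [pow_succ']; exact Submodule.mul_mem_mul hx ha)
  let rightMap : ∀ x ∈ N, R ⧸ N ^ (j + 1 + 1) →ₗ[k] R ⧸ N ^ (j + 1 + 1 + 1) := fun x hx =>
    (N ^ (j + 1 + 1)).liftQ _ (hR x hx)
  let leftMap : ∀ x ∈ N, R ⧸ N ^ (j + 1 + 1) →ₗ[k] R ⧸ N ^ (j + 1 + 1 + 1) := fun x hx =>
    (N ^ (j + 1 + 1)).liftQ _ (hL x hx)
  have htarget : ∀ f : R ⧸ N ^ (j + 1 + 1) →ₗ[k] R ⧸ N ^ (j + 1 + 1 + 1),
      (N ^ (j + 1 + 1)).map q2 ≤ G.map f → layerDim N (j + 1 + 1) ≤ c := fun f hf =>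
    ((Submodule.finrank_mono hf).trans (Submodule.finrank_map_le f G)).trans h
  let β : N →ₗ[k] (N ^ j : Submodule k R) →ₗ[k] R ⧸ N ^ (j + 1 + 1) :=
    ((LinearMap.mul k R).compr₂ q1).compl₁₂ N.subtype (N ^ j).subtype
  have hβ : ∀ x y, β x y = q1 ((x : R) * (y : R)) := fun x y => rfl
  have hβG : ∀ x y, β x y ∈ G := fun x y =>
    Submodule.mem_map_of_mem (by rw [pow_succ']; exact Submodule.mul_mem_mul x.2 y.2)
  have hGgen : ∀ (S : Submodule k (R ⧸ N ^ (j + 1 + 1))), (∀ x y, β x y ∈ S) → G ≤ S := by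
    intro S hS
    rw [Submodule.map_le_iff_le_comap, pow_succ']
    exact Submodule.mul_le.2 fun a ha b hb => hS ⟨a, ha⟩ ⟨b, hb⟩
  by_cases hfull : ∃ x : N, G ≤ LinearMap.range (β x)
  · -- one generator gives the whole layer
    obtain ⟨x, hx⟩ := hfull
    refine htarget (leftMap x x.2) ?_
    refine Submodule.map_le_iff_le_comap.2 (le_of_eq_of_le (pow_succ N (j + 1)) ?_)
    refine Submodule.mul_le.2 fun a ha b hb => ?_
    obtain ⟨y, hy⟩ := hx (Submodule.mem_map_of_mem ha)
    rw [hβ, ← sub_eq_zero, ← map_sub, hq1] at hy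
    refine ⟨q1 ((y : R) * b), Submodule.mem_map_of_mem (by rw [pow_succ]; exact Submodule.mul_mem_mul y.2 hb), ?_⟩
    show q2 ((x : R) * ((y : R) * b)) = q2 (a * b)
    rw [← sub_eq_zero, ← map_sub, ← mul_assoc, ← sub_mul]
    exact hR b hb hy
  push Not at hfull
  have hrank : ∀ x, ∃ u, ∀ y, β x y ∈ Submodule.span k {u} := fun x => by
    have hlt : LinearMap.range (β x) < G := lt_of_le_of_ne
      (fun z hz => by obtain ⟨y, rfl⟩ := hz; exact hβG x y) fun h => hfull x h.ge
    have h1 : finrank k (LinearMap.range (β x)) ≤ 1 := by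
      have h2 := Submodule.finrank_lt_finrank_of_lt hlt
      have h3 : finrank k G ≤ c := h
      omega
    obtain ⟨u, hu⟩ := finrank_le_one_iff.1 h1
    refine ⟨u, fun y => ?_⟩
    obtain ⟨a, ha⟩ := hu ⟨β x y, y, rfl⟩
    exact Submodule.mem_span_singleton.2 ⟨a, congrArg Subtype.val ha⟩
  rcases common_of_rank_le_one β hrank with ⟨u, hu⟩ | ⟨y₀, hy₀⟩
  · -- the layer is a line
    have hG : G ≤ Submodule.span k {u} := hGgen _ hu
    by_cases hz : ∀ x y, β x y = 0
    · refine le_of_eq_of_le ?_ (Nat.zero_le c)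
      have hG0 : N ^ (j + 1) ≤ N ^ (j + 1 + 1) := by
        intro a ha
        have := hGgen ⊥ (fun x y => by simp [hz x y]) (Submodule.mem_map_of_mem ha)
        rwa [Submodule.mem_bot, hq1] at this
      have h2 : N ^ (j + 1 + 1) ≤ N ^ (j + 1 + 1 + 1) := by
        rw [pow_succ _ (j + 1 + 1), pow_succ _ (j + 1)]
        exact Submodule.mul_le.2 fun a ha b hb =>
          Submodule.mul_mem_mul (by rw [← pow_succ]; exact hG0 ha) hb
      show finrank k ((N ^ (j + 1 + 1)).map (N ^ (j + 1 + 1 + 1)).mkQ) = 0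
      rw [show (N ^ (j + 1 + 1)).map (N ^ (j + 1 + 1 + 1)).mkQ = ⊥ by
        rw [← le_bot_iff, Submodule.map_le_iff_le_comap, Submodule.comap_bot, Submodule.ker_mkQ]
        exact h2, finrank_bot]
    push Not at hz
    obtain ⟨x, y, hxy⟩ := hz
    obtain ⟨b, hb⟩ := Submodule.mem_span_singleton.1 (hu x y)
    have hb0 : b ≠ 0 := fun h => hxy (by rw [← hb, h, zero_smul])
    refine absurd (hG.trans ?_) (hfull x)
    rw [Submodule.span_le, Set.singleton_subset_iff]
    exact ⟨b⁻¹ • y, by rw [map_smul, ← hb, smul_smul, inv_mul_cancel₀ hb0, one_smul]⟩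
  · -- a common hyperplane kernel
    have hred : ∀ x ∈ N, ∀ z ∈ N ^ j, ∃ a : k, x * z - a • (x * y₀) ∈ N ^ (j + 1 + 1) := by
      intro x hx z hz
      obtain ⟨a, ha⟩ := hy₀ ⟨z, hz⟩
      refine ⟨a, hq1.1 ?_⟩
      rw [map_sub, map_smul]
      have := ha ⟨x, hx⟩
      rw [map_sub, map_smul] at this
      exact this
    obtain ⟨i, rfl⟩ : ∃ i, j = i + 1 := ⟨j - 1, by omega⟩
    -- write the base vector through products
    by_cases hprod : ∀ z ∈ N ^ i, ∀ b ∈ N, ∀ x ∈ N, x * (z * b) ∈ N ^ (i + 1 + 1 + 1)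
    · refine le_of_eq_of_le ?_ (Nat.zero_le c)
      have hG0 : N ^ (i + 1 + 1) ≤ N ^ (i + 1 + 1 + 1) := by
        rw [pow_succ' _ (i + 1), pow_succ N i]
        refine Submodule.mul_le.2 fun x hx a ha => ?_
        refine Submodule.mul_induction_on ha (fun z hz b hb => hprod z hz b hb x hx) fun a b ha hb => ?_
        rw [mul_add]; exact add_mem ha hb
      show finrank k ((N ^ (i + 1 + 1 + 1)).map (N ^ (i + 1 + 1 + 1 + 1)).mkQ) = 0
      rw [show (N ^ (i + 1 + 1 + 1)).map (N ^ (i + 1 + 1 + 1 + 1)).mkQ = ⊥ by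
        rw [← le_bot_iff, Submodule.map_le_iff_le_comap, Submodule.comap_bot, Submodule.ker_mkQ,
          pow_succ _ (i + 1 + 1 + 1), pow_succ _ (i + 1 + 1)]
        exact Submodule.mul_le.2 fun a ha b hb =>
          Submodule.mul_mem_mul (by rw [← pow_succ]; exact hG0 ha) hb, finrank_bot]
    push Not at hprod
    obtain ⟨z, hz, b, hb, x, hx, hne⟩ := hprod
    have hzb : z * b ∈ N ^ (i + 1) := by rw [pow_succ]; exact Submodule.mul_mem_mul hz hb
    obtain ⟨a, ha⟩ := hy₀ ⟨z * b, hzb⟩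
    have ha0 : a ≠ 0 := fun h => hne (hq1.1 (by
      have := ha ⟨x, hx⟩
      rw [h, zero_smul, sub_zero] at this
      exact this))
    have hP : ∀ p ∈ N, p * (y₀ : R) - a⁻¹ • (p * (z * b)) ∈ N ^ (i + 1 + 1 + 1) := fun p hp => hq1.1 (by
      have := ha ⟨p, hp⟩
      rw [map_sub, map_smul, sub_eq_zero] at this
      change q1 (p * (z * b)) = a • q1 (p * y₀) at this
      rw [map_sub, map_smul, this, smul_smul, inv_mul_cancel₀ ha0, one_smul, sub_self])
    refine htarget (rightMap b hb) ?_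
    refine Submodule.map_le_iff_le_comap.2
      ((pow_succ' N (i + 1 + 1)).le.trans (Submodule.mul_le.2 fun x' hx' w hw => ?_))
    show q2 (x' * w) ∈ Submodule.map (rightMap b hb) G
    revert hw
    rw [pow_succ']
    intro hw
    refine Submodule.mul_induction_on hw (fun p hp r hr => ?_) fun p r hp hr => ?_
    · obtain ⟨cc, hcc⟩ := hred p hp r hr
      obtain ⟨d, hd⟩ := hred p hp (y₀ : R) y₀.2
      have hpz : p * z ∈ N ^ (i + 1) := by rw [pow_succ']; exact Submodule.mul_mem_mul hp hz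
      refine ⟨q1 ((cc * a⁻¹) • (x' * (p * z))), Submodule.mem_map_of_mem
        (Submodule.smul_mem _ _ (by rw [pow_succ' _ (i + 1)]; exact Submodule.mul_mem_mul hx' hpz)), ?_⟩
      show q2 (((cc * a⁻¹) • (x' * (p * z))) * b) = q2 (x' * (p * r))
      rw [← sub_eq_zero, ← map_sub]
      refine (Submodule.Quotient.mk_eq_zero _).2 ?_
      have e : ((cc * a⁻¹) • (x' * (p * z))) * b - x' * (p * r) =
          -(x' * ((p * r - cc • (p * (y₀ : R))) + cc • (p * (y₀ : R) - a⁻¹ • (p * (z * b))))) := by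
        simp only [mul_add, mul_sub, smul_sub, smul_smul, mul_smul_comm, smul_mul_assoc, mul_assoc]
        abel
      rw [e, pow_succ' _ (i + 1 + 1 + 1)]
      exact neg_mem (Submodule.mul_mem_mul hx' (add_mem hcc (Submodule.smul_mem _ _ (hP p hp))))
    · rw [mul_add, map_add]; exact add_mem hp hr

end Powers

end Cfsg.Lib.Blocks.RankOneFive
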