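import Mathlib
import Cfsg.Agent.Blocks.RankOneFive.Layers

/-!
# Regular elements in three layers

In three consecutive layers with two or three generators some left or right multiplication is
injective.
-/

set_option autoImplicit false
set_option linter.unusedSectionVars false

namespace Cfsg.Lib.Blocks.RankOneFive

open Module

section Pencil

variable {k U : Type*} [Field k] [AddCommGroup U] [Module k U]

/-- A perturbation of an independent pair stays independent for almost every parameter. -/
theorem indep_pencil {b d : U} (h : LinearIndependent k ![b, d]) (a c : U) :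
    Set.Finite {t : k | ¬ LinearIndependent k ![a + t • b, c + t • d]} := by
  classical
  obtain ⟨φ, hφb, hφd⟩ : ∃ φ : Module.Dual k U, φ b = 1 ∧ φ d = 0 := by
    obtain ⟨g, hg⟩ := (Finsupp.linearCombination k ![b, d]).exists_leftInverse_of_injective
      (LinearMap.ker_eq_bot.2 h)
    refine ⟨(Finsupp.lapply 0).comp g, ?_, ?_⟩
    · have := LinearMap.congr_fun hg (Finsupp.single 0 1)
      simp only [LinearMap.comp_apply, Finsupp.linearCombination_single, one_smul, LinearMap.id_apply,
        Matrix.cons_val_zero] at this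
      simp [this]
    · have := LinearMap.congr_fun hg (Finsupp.single 1 1)
      simp only [LinearMap.comp_apply, Finsupp.linearCombination_single, one_smul, LinearMap.id_apply,
        Matrix.cons_val_one, Matrix.cons_val_fin_one] at this
      simp [this]
  obtain ⟨ψ, hψb, hψd⟩ : ∃ ψ : Module.Dual k U, ψ b = 0 ∧ ψ d = 1 := by
    obtain ⟨g, hg⟩ := (Finsupp.linearCombination k ![b, d]).exists_leftInverse_of_injective
      (LinearMap.ker_eq_bot.2 h)
    refine ⟨(Finsupp.lapply 1).comp g, ?_, ?_⟩
    · have := LinearMap.congr_fun hg (Finsupp.single 0 1)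
      simp only [LinearMap.comp_apply, Finsupp.linearCombination_single, one_smul, LinearMap.id_apply,
        Matrix.cons_val_zero] at this
      simp [this]
    · have := LinearMap.congr_fun hg (Finsupp.single 1 1)
      simp only [LinearMap.comp_apply, Finsupp.linearCombination_single, one_smul, LinearMap.id_apply,
        Matrix.cons_val_one, Matrix.cons_val_fin_one] at this
      simp [this]
  set P : Polynomial k := (Polynomial.X + Polynomial.C (φ a)) * (Polynomial.X + Polynomial.C (ψ c)) -
    Polynomial.C (φ c * ψ a)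
  have hP : P ≠ 0 := by
    intro h0
    have := congrArg (fun q => Polynomial.coeff q 2) h0
    simp [P, Polynomial.coeff_sub, add_mul, mul_add, Polynomial.coeff_add, Polynomial.coeff_X,
      Polynomial.coeff_C, ← pow_two] at this
  refine (P.finite_setOf_isRoot hP).subset fun t ht => ?_
  simp only [Set.mem_setOf_eq, LinearIndependent.pair_iff] at ht ⊢
  push Not at ht
  obtain ⟨x, y, hxy, hne⟩ := ht
  have e1 := congrArg φ hxy
  have e2 := congrArg ψ hxy
  simp only [map_add, map_smul, smul_eq_mul, map_zero, hφb, hφd, hψb, hψd, mul_one, mul_zero,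
    add_zero] at e1 e2
  simp only [Polynomial.IsRoot, P, Polynomial.eval_sub, Polynomial.eval_mul, Polynomial.eval_add,
    Polynomial.eval_X, Polynomial.eval_C]
  rcases eq_or_ne x 0 with hx | hx
  · have hy : y ≠ 0 := hne hx
    refine (mul_eq_zero.1 (?_ : y * _ = 0)).resolve_left hy
    linear_combination (t + φ a) * e2 - ψ a * e1
  · refine (mul_eq_zero.1 (?_ : x * _ = 0)).resolve_left hx
    linear_combination (t + ψ c) * e1 - φ c * e2

/-- A pencil dependent at infinitely many parameters starts with a dependent pair. -/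
theorem dep_pencil {a b c d : U} (h : Set.Infinite {t : k | ¬ LinearIndependent k ![a + t • b, c + t • d]}) :
    ¬ LinearIndependent k ![a, c] := by
  intro hac
  -- exchange the roles of the ends through the inverse parameter
  refine h (((indep_pencil hac b d).image (·⁻¹)).insert 0 |>.subset fun t ht => ?_)
  rcases eq_or_ne t 0 with rfl | ht0
  · exact Set.mem_insert _ _
  refine Set.mem_insert_of_mem _ ⟨t⁻¹, ?_, inv_inv t⟩
  intro h'
  refine ht ?_
  have h2 := h'.units_smul ![Units.mk0 t ht0, Units.mk0 t ht0]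
  convert h2 using 1
  funext i
  fin_cases i <;> simp [Units.smul_def, smul_add, smul_smul, mul_inv_cancel₀ ht0, add_comm]

/-- A small subspace lies in a plane. -/
theorem exists_plane [FiniteDimensional k U] (hU : 2 ≤ finrank k U) (S : Submodule k U)
    (hS : finrank k S ≤ 2) : ∃ Y : Submodule k U, S ≤ Y ∧ finrank k Y = 2 := by
  induction hd : 2 - finrank k S generalizing S with
  | zero => exact ⟨S, le_rfl, by omega⟩
  | succ n ih =>
    obtain ⟨x, -, hx⟩ := SetLike.exists_of_lt (lt_top_iff_ne_top.2 fun h : S = ⊤ => by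
      rw [h, finrank_top] at hS hd; omega)
    have h1 : finrank k (Submodule.span k {x}) ≤ 1 := (finrank_span_le_card ({x} : Set U)).trans (by simp)
    have h2 := Submodule.finrank_add_le_finrank_add_finrank S (Submodule.span k {x})
    have h3 := Submodule.finrank_lt_finrank_of_lt (lt_of_le_of_ne
      (le_sup_left : S ≤ S ⊔ Submodule.span k {x}) fun h => hx (h ▸ Submodule.mem_sup_right
        (Submodule.mem_span_singleton_self x)))
    obtain ⟨Y, hY, hY'⟩ := ih (S ⊔ Submodule.span k {x}) (by omega) (by omega)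
    exact ⟨Y, le_sup_left.trans hY, hY'⟩

end Pencil

section Regular

variable {k V U W : Type*} [Field k] [AddCommGroup V] [Module k V] [AddCommGroup U] [Module k U]
  [AddCommGroup W] [Module k W] [FiniteDimensional k V] [FiniteDimensional k U]
  [FiniteDimensional k W]
  (μ : V →ₗ[k] V →ₗ[k] U) (ρ : U →ₗ[k] V →ₗ[k] W) (lam : V →ₗ[k] U →ₗ[k] W)

/-- Two generators. -/
theorem exists_regular_two (hV : finrank k V = 2) (hU : finrank k U = 2)
    (hspan : Submodule.span k {x | ∃ a b, x = μ a b} = ⊤)
    (hkl : ∀ p, (∀ v, μ p v = 0) → p = 0) :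
    ∃ u, Function.Injective (μ.flip u) := by
  classical
  by_contra h
  push Not at h
  have hrank : ∀ v, ∃ x, ∀ w, μ.flip v w ∈ Submodule.span k {x} := fun v => by
    have h1 : LinearMap.ker (μ.flip v) ≠ ⊥ := fun e => h v (LinearMap.ker_eq_bot.1 e)
    have h2 := Submodule.one_le_finrank_iff.2 h1
    have h3 := LinearMap.finrank_range_add_finrank_ker (μ.flip v)
    obtain ⟨x, hx⟩ := finrank_le_one_iff.1 (show finrank k (LinearMap.range (μ.flip v)) ≤ 1 by omega)
    refine ⟨x, fun w => ?_⟩
    obtain ⟨a, ha⟩ := hx ⟨μ.flip v w, w, rfl⟩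
    exact Submodule.mem_span_singleton.2 ⟨a, congrArg Subtype.val ha⟩
  rcases common_of_rank_le_one μ.flip hrank with ⟨x, hx⟩ | ⟨w₀, hw₀⟩
  · have : finrank k (⊤ : Submodule k U) ≤ 1 := by
      refine (Submodule.finrank_mono (hspan ▸ Submodule.span_le.2 ?_)).trans
        ((finrank_span_le_card ({x} : Set U)).trans (by simp))
      rintro _ ⟨a, b, rfl⟩
      exact hx b a
    rw [finrank_top, hU] at this
    omega
  · have : finrank k V ≤ 1 := finrank_le_one w₀ fun w => by
      obtain ⟨c, hc⟩ := hw₀ w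
      exact ⟨c, (sub_eq_zero.1 (hkl _ hc)).symm⟩
    omega

/-- All multiplications singular: a plane of left factors gives a line of products. -/
theorem exists_line [Infinite k] (hV : finrank k V = 3) (hU : finrank k U = 3)
    (hWn : 2 ≤ finrank k W)
    (hassoc : ∀ a b c, ρ (μ a b) c = lam a (μ b c))
    (hspan : Submodule.span k {x | ∃ a b, x = μ a b} = ⊤)
    (hW : Submodule.span k {z | ∃ a b c, z = ρ (μ a b) c} = ⊤)
    (hkl : ∀ p, (∀ v, μ p v = 0) → p = 0) (hann : finrank k (LinearMap.ker ρ) ≤ 1)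
    (hsing : ∀ u, ¬ Function.Injective (μ.flip u)) :
    ∃ Y : Submodule k V, finrank k Y = 2 ∧ ∃ e, ∀ y ∈ Y, ∀ v, μ y v ∈ Submodule.span k {e} := by
  classical
  let R' : V → (U →ₗ[k] W) := fun u => ρ.flip u
  let O : Set V := {u | ∃ x₁ x₂, LinearIndependent k ![ρ x₁ u, ρ x₂ u]}
  obtain ⟨u₀, hu₀⟩ : ∃ u, u ∈ O := by
    by_contra h
    push Not at h
    have hrank : ∀ v, ∃ z, ∀ x, ρ.flip v x ∈ Submodule.span k {z} := fun v => by
      by_cases h0 : ∀ x, ρ x v = 0
      · exact ⟨0, fun x => by simp [h0 x]⟩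
      push Not at h0
      obtain ⟨x₁, hx₁⟩ := h0
      refine ⟨ρ x₁ v, fun x => ?_⟩
      by_contra hx
      refine h v ⟨x₁, x, (LinearIndependent.pair_iff' hx₁).2 fun a ha => hx ?_⟩
      exact Submodule.mem_span_singleton.2 ⟨a, ha⟩
    rcases common_of_rank_le_one ρ.flip hrank with ⟨z, hz⟩ | ⟨x₀, hx₀⟩
    · have : finrank k (⊤ : Submodule k W) ≤ 1 := by
        refine (Submodule.finrank_mono (hW ▸ Submodule.span_le.2 ?_)).trans
          ((finrank_span_le_card ({z} : Set W)).trans (by simp))
        rintro _ ⟨a, b, c, rfl⟩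
        exact hz c (μ a b)
      rw [finrank_top] at this
      omega
    · have hle : (⊤ : Submodule k U) ≤ LinearMap.ker ρ ⊔ Submodule.span k {x₀} := fun x _ => by
        obtain ⟨c, hc⟩ := hx₀ x
        exact Submodule.mem_sup.2 ⟨x - c • x₀, LinearMap.ext hc, c • x₀,
          Submodule.smul_mem _ _ (Submodule.mem_span_singleton_self x₀), sub_add_cancel _ _⟩
      have h1 := (Submodule.finrank_mono hle).trans (Submodule.finrank_add_le_finrank_add_finrank _ _)
      have h2 : finrank k (Submodule.span k {x₀}) ≤ 1 :=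
        (finrank_span_le_card ({x₀} : Set U)).trans (by simp)
      rw [finrank_top] at h1
      omega
  -- elements with a small image
  let Bad : Set V := {v | finrank k (LinearMap.range (μ.flip v)) ≤ 1}
  have hbad : ∀ u ∈ O, ∀ v, μ v u = 0 → v ∈ Bad := fun u ⟨x₁, x₂, hx⟩ v hv => by
    have hle : LinearMap.range (μ.flip v) ≤ LinearMap.ker (ρ.flip u) := by
      rintro _ ⟨a, rfl⟩
      show ρ (μ a v) u = 0
      rw [hassoc, hv, map_zero]
    have h2 : 2 ≤ finrank k (LinearMap.range (ρ.flip u)) := by
      have h3 := hx.fintype_card_le_finrank (R := k) (M := W)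
      have := Submodule.finrank_mono (show Submodule.span k (Set.range ![ρ x₁ u, ρ x₂ u]) ≤
          LinearMap.range (ρ.flip u) from Submodule.span_le.2 (by
        rintro _ ⟨i, rfl⟩
        fin_cases i
        · exact ⟨x₁, rfl⟩
        · exact ⟨x₂, rfl⟩))
      rwa [finrank_span_eq_card hx, Fintype.card_fin] at this
    have h4 := LinearMap.finrank_range_add_finrank_ker (ρ.flip u)
    have h5 := Submodule.finrank_mono hle
    show finrank k _ ≤ 1
    omega
  -- the small elements lie in a plane
  have hdim : finrank k (Submodule.span k Bad) ≤ 2 := by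
    by_contra hgt
    obtain ⟨s, hs, hsp, hli⟩ := exists_linearIndependent k Bad
    have hlt : finrank k (Submodule.span k Bad) ≤ 3 := hV ▸ Submodule.finrank_le _
    have htop : Submodule.span k Bad = ⊤ := Submodule.eq_top_of_finrank_eq (by omega)
    let bs := Basis.mk hli (by rw [Subtype.range_coe, hsp, htop])
    haveI : Fintype s := FiniteDimensional.fintypeBasisIndex bs
    have hc : Fintype.card s = 3 := by rw [← Module.finrank_eq_card_basis bs, hV]
    let e3 := (Fintype.equivFinOfCardEq hc).symm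
    let v : Fin 3 → V := fun i => (e3 i : V)
    have hv : ∀ i, finrank k (LinearMap.range (μ.flip (v i))) ≤ 1 := fun i => hs (e3 i).2
    have hvspan : Submodule.span k (Set.range v) = ⊤ := by
      rw [show v = Subtype.val ∘ e3 from rfl, Set.range_comp, e3.range_eq_univ, Set.image_univ,
        Subtype.range_coe, hsp, htop]
    have hker : ∀ i, 2 ≤ finrank k (LinearMap.ker (μ.flip (v i))) := fun i => by
      have := LinearMap.finrank_range_add_finrank_ker (μ.flip (v i))
      have := hv i
      omega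
    have hall : ∀ p, (∀ i, μ p (v i) = 0) → p = 0 := fun p hp => hkl p fun w =>
      LinearMap.congr_fun (LinearMap.ext_on hvspan (f := μ p) (g := 0) (by
        rintro _ ⟨i, rfl⟩; exact hp i)) w
    have hpair : ∀ i j l : Fin 3, (∀ x, x = i ∨ x = j ∨ x = l) →
        ∃ p, μ p (v i) = 0 ∧ μ p (v j) = 0 ∧ μ p (v l) ≠ 0 := fun i j l hx => by
      have h1 := Submodule.finrank_sup_add_finrank_inf_eq (LinearMap.ker (μ.flip (v i)))
        (LinearMap.ker (μ.flip (v j)))
      have h2 := Submodule.finrank_le (LinearMap.ker (μ.flip (v i)) ⊔ LinearMap.ker (μ.flip (v j)))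
      have := hker i
      have := hker j
      obtain ⟨p, hp, hp0⟩ := Submodule.exists_mem_ne_zero_of_ne_bot
        (Submodule.one_le_finrank_iff.1 (show 1 ≤ finrank k
          (LinearMap.ker (μ.flip (v i)) ⊓ LinearMap.ker (μ.flip (v j)) : Submodule k V) by omega))
      refine ⟨p, hp.1, hp.2, fun h => hp0 (hall p fun x => ?_)⟩
      rcases hx x with rfl | rfl | rfl
      exacts [hp.1, hp.2, h]
    obtain ⟨p₀, a₀, b₀, c₀⟩ := hpair 1 2 0 (by decide)
    obtain ⟨p₁, a₁, b₁, c₁⟩ := hpair 0 2 1 (by decide)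
    obtain ⟨p₂, a₂, b₂, c₂⟩ := hpair 0 1 2 (by decide)
    refine hsing (v 0 + v 1 + v 2) ((LinearMap.injective_iff_surjective_of_finrank_eq_finrank
      (hV.trans hU.symm)).2 ?_)
    rw [← LinearMap.range_eq_top, eq_top_iff, ← hspan, Submodule.span_le]
    rintro _ ⟨x, y, rfl⟩
    have hsplit : ∀ i : Fin 3, LinearMap.range (μ.flip (v i)) ≤
        LinearMap.range (μ.flip (v 0 + v 1 + v 2)) := by
      intro i
      have key : ∀ p, μ p (v i) ≠ 0 → μ p (v 0 + v 1 + v 2) = μ p (v i) →
          LinearMap.range (μ.flip (v i)) ≤ LinearMap.range (μ.flip (v 0 + v 1 + v 2)) := by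
        rintro p hp he _ ⟨a, rfl⟩
        obtain ⟨z, hz⟩ := finrank_le_one_iff.1 (hv i)
        obtain ⟨c, hc⟩ := hz ⟨μ p (v i), p, rfl⟩
        obtain ⟨c', hc'⟩ := hz ⟨μ.flip (v i) a, a, rfl⟩
        have hc0 : c ≠ 0 := fun h => hp (by
          rw [h, zero_smul] at hc; exact (congrArg Subtype.val hc).symm)
        refine ⟨(c' / c) • p, ?_⟩
        rw [map_smul, LinearMap.flip_apply, he]
        have e1 : c • (z : U) = μ p (v i) := congrArg Subtype.val hc
        have e2 : c' • (z : U) = μ.flip (v i) a := congrArg Subtype.val hc'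
        rw [← e1, smul_smul, div_mul_cancel₀ _ hc0, e2]
      fin_cases i
      · exact key p₀ c₀ (by simp [map_add, a₀, b₀])
      · exact key p₁ c₁ (by simp [map_add, a₁, b₁])
      · exact key p₂ c₂ (by simp [map_add, a₂, b₂])
    have hy : y ∈ Submodule.span k (Set.range v) := hvspan ▸ Submodule.mem_top
    obtain ⟨c, rfl⟩ := (Submodule.mem_span_range_iff_exists_fun k).1 hy
    rw [map_sum]
    exact Submodule.sum_mem _ fun i _ => by
      rw [map_smul]; exact Submodule.smul_mem _ _ (hsplit i ⟨x, rfl⟩)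
  obtain ⟨Y, hY, hYd⟩ := exists_plane (show 2 ≤ finrank k V by omega) _ hdim
  refine ⟨Y, hYd, ?_⟩
  -- on the plane every multiplication has rank at most one
  have hdep : ∀ u, ∀ y₁ ∈ Y, ∀ y₂ ∈ Y, ¬ LinearIndependent k ![μ y₁ u, μ y₂ u] := by
    intro u y₁ hy₁ y₂ hy₂
    by_cases hyy : LinearIndependent k ![y₁, y₂]
    swap
    · intro h
      refine hyy (LinearIndependent.of_comp (μ.flip u) ?_)
      convert h using 1
      funext i; fin_cases i <;> rfl
    have hYspan : Submodule.span k (Set.range ![y₁, y₂]) = Y :=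
      Submodule.eq_of_le_of_finrank_eq (Submodule.span_le.2 (by
        rintro _ ⟨i, rfl⟩; fin_cases i <;> assumption)) (by rw [finrank_span_eq_card hyy, hYd, Fintype.card_fin])
    obtain ⟨x₁, x₂, hx⟩ := hu₀
    have hinf : Set.Infinite {t : k | ¬ LinearIndependent k ![μ y₁ u + t • μ y₁ u₀, μ y₂ u + t • μ y₂ u₀]} := by
      refine ((indep_pencil hx (ρ x₁ u) (ρ x₂ u)).infinite_compl).mono fun t ht => ?_
      simp only [Set.mem_compl_iff, Set.mem_setOf_eq, not_not] at ht
      have hO : u + t • u₀ ∈ O := ⟨x₁, x₂, by simpa using ht⟩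
      obtain ⟨v, hv, hv0⟩ := Submodule.exists_mem_ne_zero_of_ne_bot
        (fun e => hsing (u + t • u₀) (LinearMap.ker_eq_bot.1 e))
      have hvY : v ∈ Y := hY (Submodule.subset_span (hbad _ hO v hv))
      rw [← hYspan] at hvY
      obtain ⟨c, rfl⟩ := (Submodule.mem_span_range_iff_exists_fun k).1 hvY
      intro hind
      have h0 := Fintype.linearIndependent_iff.1 hind c (by
        have e : μ (∑ i, c i • ![y₁, y₂] i) (u + t • u₀) = 0 := hv
        simp only [Fin.sum_univ_two, Matrix.cons_val_zero, Matrix.cons_val_one, map_add, map_smul,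
          LinearMap.add_apply, LinearMap.smul_apply, smul_add] at e ⊢
        rw [← e]
        simp only [smul_comm t]
        abel)
      exact hv0 (by simp [Fin.sum_univ_two, h0 0, h0 1])
    exact dep_pencil hinf
  let β : V →ₗ[k] Y →ₗ[k] U := (μ.comp Y.subtype).flip
  have hrank : ∀ v, ∃ x, ∀ w, β v w ∈ Submodule.span k {x} := fun v => by
    by_cases h0 : ∀ w : Y, β v w = 0
    · exact ⟨0, fun w => by simp [h0 w]⟩
    push Not at h0
    obtain ⟨w₁, hw₁⟩ := h0
    refine ⟨β v w₁, fun w => ?_⟩
    by_contra hw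
    exact hdep v _ w₁.2 _ w.2 ((LinearIndependent.pair_iff' hw₁).2 fun a ha =>
      hw (Submodule.mem_span_singleton.2 ⟨a, ha⟩))
  rcases common_of_rank_le_one β hrank with ⟨e, he⟩ | ⟨w₀, hw₀⟩
  · exact ⟨e, fun y hy v => he v ⟨y, hy⟩⟩
  · have : finrank k Y ≤ 1 := finrank_le_one w₀ fun w => by
      obtain ⟨c, hc⟩ := hw₀ w
      exact ⟨c, Subtype.ext (sub_eq_zero.1 (hkl ((w : V) - c • (w₀ : V)) fun v => hc v)).symm⟩
    omega

/-- Three generators. -/
theorem exists_regular_three [Infinite k] (hV : finrank k V = 3) (hU : finrank k U = 3)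
    (hWn : 2 ≤ finrank k W)
    (hassoc : ∀ a b c, ρ (μ a b) c = lam a (μ b c))
    (hW : Submodule.span k {z | ∃ a b c, z = ρ (μ a b) c} = ⊤)
    (hskew : Submodule.span k {x | ∃ a b, x = μ a b - μ b a} = ⊤)
    (hkl : ∀ p, (∀ v, μ p v = 0) → p = 0) (hkr : ∀ p, (∀ v, μ v p = 0) → p = 0)
    (hann : finrank k (LinearMap.ker ρ) ≤ 1) (hann' : finrank k (LinearMap.ker lam.flip) ≤ 1) :
    ∃ u, Function.Injective (μ.flip u) ∨ Function.Injective (μ u) := by
  classical
  by_contra hno
  push Not at hno
  have hspan : Submodule.span k {x | ∃ a b, x = μ a b} = ⊤ := eq_top_iff.2 (hskew ▸ Submodule.span_le.2 (by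
    rintro _ ⟨a, b, rfl⟩
    exact sub_mem (Submodule.subset_span ⟨a, b, rfl⟩) (Submodule.subset_span ⟨b, a, rfl⟩)))
  obtain ⟨Y, hY, e, he⟩ := exists_line μ ρ lam hV hU hWn hassoc hspan hW hkl hann fun u => (hno u).1
  obtain ⟨Q, hQ, e', he'⟩ := exists_line μ.flip lam.flip ρ.flip hV hU hWn
    (fun a b c => (hassoc c b a).symm)
    (by rw [← hspan]; congr 1; ext x; exact ⟨fun ⟨a, b, h⟩ => ⟨b, a, h⟩, fun ⟨a, b, h⟩ => ⟨b, a, h⟩⟩)
    (by
      rw [← hW]; congr 1; ext x
      exact ⟨fun ⟨a, b, c, h⟩ => ⟨c, b, a, h.trans (hassoc c b a).symm⟩,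
        fun ⟨a, b, c, h⟩ => ⟨c, b, a, h.trans (hassoc a b c)⟩⟩)
    hkr hann' fun u => (hno u).2
  -- skew products of two elements of a basis
  have hthree : ∀ S : Set V, Submodule.span k S = ⊤ → ∀ T : Submodule k U,
      (∀ a ∈ S, ∀ b ∈ S, μ a b - μ b a ∈ T) → finrank k T = 3 := by
    intro S hS T hT
    have hall : ∀ a b, μ a b - μ b a ∈ T := by
      intro a b
      have ha : a ∈ Submodule.span k S := hS ▸ Submodule.mem_top
      have hb : b ∈ Submodule.span k S := hS ▸ Submodule.mem_top
      induction ha, hb using Submodule.span_induction₂ with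
      | mem_mem a b ha hb => exact hT a ha b hb
      | zero_left b hb => simp
      | zero_right a ha => simp
      | add_left a a' b _ _ _ h h' =>
        convert add_mem h h' using 1; simp only [map_add, LinearMap.add_apply]; abel
      | add_right a b b' _ _ _ h h' =>
        convert add_mem h h' using 1; simp only [map_add, LinearMap.add_apply]; abel
      | smul_left c a b _ _ h => convert T.smul_mem c h using 1; simp [smul_sub]
      | smul_right c a b _ _ h => convert T.smul_mem c h using 1; simp [smul_sub]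
    have : T = ⊤ := eq_top_iff.2 (hskew ▸ Submodule.span_le.2 (by rintro _ ⟨a, b, rfl⟩; exact hall a b))
    rw [this, finrank_top, hU]
  have hee : finrank k (Submodule.span k {e, e'}) ≤ 2 :=
    (finrank_span_le_card _).trans (by simpa using Finset.card_le_two)
  have hin : ∀ y ∈ Y, ∀ v, μ y v ∈ Submodule.span k {e, e'} := fun y hy v =>
    Submodule.span_mono (by simp) (he y hy v)
  have hin' : ∀ q ∈ Q, ∀ v, μ v q ∈ Submodule.span k {e, e'} := fun q hq v =>
    Submodule.span_mono (by simp) (he' q hq v)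
  -- a common element of the planes
  obtain ⟨s, hs, hs0⟩ := Submodule.exists_mem_ne_zero_of_ne_bot
    (Submodule.one_le_finrank_iff.1 (show 1 ≤ finrank k (Y ⊓ Q : Submodule k V) by
      have h1 := Submodule.finrank_sup_add_finrank_inf_eq Y Q
      have h2 := Submodule.finrank_le (Y ⊔ Q)
      omega))
  by_cases hYQ : Y = Q
  · subst hYQ
    obtain ⟨p, -, hp⟩ := SetLike.exists_of_lt (lt_top_iff_ne_top.2 fun h : Y = ⊤ => by
      rw [h, finrank_top] at hY; omega)
    have hS : Submodule.span k ((Y : Set V) ∪ {p}) = ⊤ := by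
      refine Submodule.eq_top_of_finrank_eq (le_antisymm (Submodule.finrank_le _) ?_)
      have hlt : Y < Submodule.span k ((Y : Set V) ∪ {p}) := lt_of_le_of_ne
        (fun y hy => Submodule.subset_span (Or.inl hy))
        fun h => hp (h ▸ Submodule.subset_span (Or.inr rfl))
      have := Submodule.finrank_lt_finrank_of_lt hlt
      omega
    have := hthree _ hS (Submodule.span k {e, e'}) (by
      rintro a (ha | ha) b (hb | hb)
      · exact sub_mem (hin a ha b) (hin' a ha b)
      · exact sub_mem (hin a ha b) (hin' a ha b)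
      · exact sub_mem (hin' b hb a) (hin b hb a)
      · simp only [Set.mem_singleton_iff] at ha hb; subst ha hb; simp)
    omega
  -- bases adapted to the planes
  have hbasis : ∀ Z : Submodule k V, finrank k Z = 2 → s ∈ Z → ∃ p ∈ Z, Z ≤ Submodule.span k {s, p} := by
    intro Z hZ hsZ
    obtain ⟨p, hpZ, hp⟩ := SetLike.exists_of_lt (lt_of_le_of_ne
      ((Submodule.span_singleton_le_iff_mem _ _).2 hsZ) fun h => by
        rw [← h, finrank_span_singleton hs0] at hZ; omega)
    refine ⟨p, hpZ, le_of_eq (Submodule.eq_of_le_of_finrank_le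
      (Submodule.span_le.2 (Set.insert_subset hsZ (Set.singleton_subset_iff.2 hpZ))) ?_).symm⟩
    have hlt : Submodule.span k {s} < Submodule.span k {s, p} := lt_of_le_of_ne
      (Submodule.span_mono (by simp)) fun h => hp (h ▸ Submodule.subset_span (by simp))
    have := Submodule.finrank_lt_finrank_of_lt hlt
    rw [finrank_span_singleton hs0] at this
    omega
  obtain ⟨p, hp, hpY⟩ := hbasis Y hY hs.1
  obtain ⟨q, hq, hqQ⟩ := hbasis Q hQ hs.2
  have hS : Submodule.span k ({s, p, q} : Set V) = ⊤ := by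
    refine Submodule.eq_top_of_finrank_eq (le_antisymm (Submodule.finrank_le _) ?_)
    have hlt : Y < Submodule.span k ({s, p, q} : Set V) := by
      refine lt_of_le_of_ne (hpY.trans (Submodule.span_mono (by grind))) fun h => hYQ ?_
      refine (Submodule.eq_of_le_of_finrank_eq (hqQ.trans ?_) (hQ.trans hY.symm)).symm
      rw [h]
      exact Submodule.span_mono (by grind)
    have := Submodule.finrank_lt_finrank_of_lt hlt
    omega
  set z := μ p q - μ q p with hzdef
  -- the two lines differ
  have hindep : ∀ c : U, ¬ (e ∈ Submodule.span k {c} ∧ e' ∈ Submodule.span k {c}) := by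
    rintro c ⟨h1, h2⟩
    have hl : ∀ {x}, x ∈ Submodule.span k {e} → x ∈ Submodule.span k {c} := fun hx =>
      (Submodule.span_singleton_le_iff_mem _ _).2 h1 hx
    have hl' : ∀ {x}, x ∈ Submodule.span k {e'} → x ∈ Submodule.span k {c} := fun hx =>
      (Submodule.span_singleton_le_iff_mem _ _).2 h2 hx
    have := hthree _ hS (Submodule.span k {c, z}) (by
      have m : ∀ {x}, x ∈ Submodule.span k {c} → x ∈ Submodule.span k {c, z} := fun hx =>
        Submodule.span_mono (by simp) hx
      have hz : z ∈ Submodule.span k {c, z} := Submodule.subset_span (by simp)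
      rintro a (rfl | rfl | rfl) b (rfl | rfl | rfl)
      · simp
      · exact sub_mem (m (hl (he _ hs.1 _))) (m (hl (he _ hp _)))
      · exact sub_mem (m (hl (he _ hs.1 _))) (m (hl' (he' _ hs.2 _)))
      · exact sub_mem (m (hl (he _ hp _))) (m (hl (he _ hs.1 _)))
      · simp
      · exact hz
      · exact sub_mem (m (hl' (he' _ hs.2 _))) (m (hl (he _ hs.1 _)))
      · rw [← neg_sub]; exact neg_mem hz
      · simp)
    have h3 : finrank k (Submodule.span k {c, z}) ≤ 2 :=
      (finrank_span_le_card _).trans (by simpa using Finset.card_le_two)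
    omega
  have hmeet : ∀ x, x ∈ Submodule.span k {e} → x ∈ Submodule.span k {e'} → x = 0 := fun x h1 h2 => by
    by_contra hx
    obtain ⟨a, ha⟩ := Submodule.mem_span_singleton.1 h1
    obtain ⟨b, hb⟩ := Submodule.mem_span_singleton.1 h2
    have ha0 : a ≠ 0 := fun h => hx (by rw [← ha, h, zero_smul])
    have hb0 : b ≠ 0 := fun h => hx (by rw [← hb, h, zero_smul])
    exact hindep x ⟨Submodule.mem_span_singleton.2 ⟨a⁻¹, by rw [← ha, inv_smul_smul₀ ha0]⟩,
      Submodule.mem_span_singleton.2 ⟨b⁻¹, by rw [← hb, inv_smul_smul₀ hb0]⟩⟩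
  have ss : μ s s = 0 := hmeet _ (he _ hs.1 _) (he' _ hs.2 _)
  have sq : μ s q = 0 := hmeet _ (he _ hs.1 _) (he' _ hq _)
  have ps : μ p s = 0 := hmeet _ (he _ hp _) (he' _ hs.2 _)
  have pq : μ p q = 0 := hmeet _ (he _ hp _) (he' _ hq _)
  have hsp0 : μ s p ≠ 0 := fun h => by
    have h3 := hthree _ hS (Submodule.span k {μ q s, μ q p}) (by
      have m1 : μ q s ∈ Submodule.span k {μ q s, μ q p} := Submodule.subset_span (by simp)
      have m2 : μ q p ∈ Submodule.span k {μ q s, μ q p} := Submodule.subset_span (by simp)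
      rintro a (rfl | rfl | rfl) b (rfl | rfl | rfl) <;>
        simp [ss, sq, ps, pq, h, m1, m2, neg_mem_iff])
    have h4 : finrank k (Submodule.span k {μ q s, μ q p}) ≤ 2 :=
      (finrank_span_le_card _).trans (by simpa using Finset.card_le_two)
    omega
  have hqs0 : μ q s ≠ 0 := fun h => by
    have h3 := hthree _ hS (Submodule.span k {μ s p, μ q p}) (by
      have m1 : μ s p ∈ Submodule.span k {μ s p, μ q p} := Submodule.subset_span (by simp)
      have m2 : μ q p ∈ Submodule.span k {μ s p, μ q p} := Submodule.subset_span (by simp)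
      rintro a (rfl | rfl | rfl) b (rfl | rfl | rfl) <;>
        simp [ss, sq, ps, pq, h, m1, m2, neg_mem_iff])
    have h4 : finrank k (Submodule.span k {μ s p, μ q p}) ≤ 2 :=
      (finrank_span_le_card _).trans (by simpa using Finset.card_le_two)
    omega
  obtain ⟨a, ha⟩ : ∃ a : k, μ p p = a • μ s p := by
    obtain ⟨a, ha⟩ := Submodule.mem_span_singleton.1 (he _ hp p)
    obtain ⟨b, hb⟩ := Submodule.mem_span_singleton.1 (he _ hs.1 p)
    have hb0 : b ≠ 0 := fun h => hsp0 (by rw [← hb, h, zero_smul])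
    exact ⟨a / b, by rw [← ha, ← hb, smul_smul, div_mul_cancel₀ _ hb0]⟩
  obtain ⟨b, hb⟩ : ∃ b : k, μ q q = b • μ q s := by
    obtain ⟨a, ha⟩ := Submodule.mem_span_singleton.1 (he' _ hq q)
    obtain ⟨b, hb⟩ := Submodule.mem_span_singleton.1 (he' _ hs.2 q)
    rw [LinearMap.flip_apply] at ha hb
    have hb0 : b ≠ 0 := fun h => hqs0 (by rw [← hb, h, zero_smul])
    exact ⟨a / b, by rw [← ha, ← hb, smul_smul, div_mul_cancel₀ _ hb0]⟩
  -- only one word of length three survives
  have hword : ∀ x ∈ ({s, p, q} : Set V), ∀ y ∈ ({s, p, q} : Set V), ∀ w ∈ ({s, p, q} : Set V),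
      ρ (μ x y) w ∈ Submodule.span k {ρ (μ q s) p} := by
    have z1 : ρ (μ s p) s = 0 := by rw [hassoc, ps, map_zero]
    have z2 : ρ (μ s p) p = 0 := by
      rw [hassoc, ha, map_smul, ← hassoc, ss, map_zero, LinearMap.zero_apply, smul_zero]
    have z3 : ρ (μ s p) q = 0 := by rw [hassoc, pq, map_zero]
    have z4 : ρ (μ q s) s = 0 := by rw [hassoc, ss, map_zero]
    have z5 : ρ (μ q s) q = 0 := by rw [hassoc, sq, map_zero]
    have z6 : ρ (μ q p) s = 0 := by rw [hassoc, ps, map_zero]
    have z7 : ρ (μ q p) p ∈ Submodule.span k {ρ (μ q s) p} := by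
      have e : ρ (μ q p) p = a • ρ (μ q s) p := by rw [hassoc, ha, map_smul, ← hassoc]
      rw [e]
      exact Submodule.smul_mem _ _ (Submodule.mem_span_singleton_self _)
    have z8 : ρ (μ q p) q = 0 := by rw [hassoc, pq, map_zero]
    rintro x (rfl | rfl | rfl) y (rfl | rfl | rfl) w (rfl | rfl | rfl) <;>
      simp [ss, sq, ps, pq, ha, hb, z1, z2, z3, z4, z5, z6, z7, z8, Submodule.smul_mem,
        Submodule.mem_span_singleton_self]
  have hle : (⊤ : Submodule k W) ≤ Submodule.span k {ρ (μ q s) p} := by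
    rw [← hW, Submodule.span_le]
    rintro _ ⟨x, y, w, rfl⟩
    have key : ∀ x ∈ ({s, p, q} : Set V), ∀ y ∈ ({s, p, q} : Set V), ∀ w,
        ρ (μ x y) w ∈ Submodule.span k {ρ (μ q s) p} := fun x hx y hy w => by
      have hw : w ∈ Submodule.span k ({s, p, q} : Set V) := hS ▸ Submodule.mem_top
      exact (Submodule.span_le.2 fun w hw => Submodule.mem_comap.2 (hword x hx y hy w hw) :
        Submodule.span k ({s, p, q} : Set V) ≤ Submodule.comap (ρ (μ x y)) _) hw
    have key2 : ∀ x ∈ ({s, p, q} : Set V), ∀ y w, ρ (μ x y) w ∈ Submodule.span k {ρ (μ q s) p} :=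
      fun x hx y w => by
        have hy : y ∈ Submodule.span k ({s, p, q} : Set V) := hS ▸ Submodule.mem_top
        exact (Submodule.span_le.2 fun y hy => Submodule.mem_comap.2 (key x hx y hy w) :
          Submodule.span k ({s, p, q} : Set V) ≤ Submodule.comap ((ρ.flip w).comp (μ x)) _) hy
    have hx : x ∈ Submodule.span k ({s, p, q} : Set V) := hS ▸ Submodule.mem_top
    exact (Submodule.span_le.2 fun x hx => Submodule.mem_comap.2 (key2 x hx y w) :
      Submodule.span k ({s, p, q} : Set V) ≤ Submodule.comap ((ρ.flip w).comp (μ.flip y)) _) hx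
  have h1 := (Submodule.finrank_mono hle).trans (finrank_span_le_card ({ρ (μ q s) p} : Set W))
  rw [finrank_top, Set.toFinset_singleton, Finset.card_singleton] at h1
  omega

end Regular

end Cfsg.Lib.Blocks.RankOneFive
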