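import Mathlib
import Cfsg.Agent.Blocks.RankOneSmall.Algebra
import Cfsg.Agent.Blocks.RankOneFive.Layers

/-!
# Nilpotent subspaces with a trace, up to the socle
-/

set_option autoImplicit false
set_option linter.unusedSectionVars false

namespace Cfsg.Lib.Blocks.RankOneFive

open Module Cfsg.Lib.Blocks.RankOneSmall
open scoped Pointwise

variable {k R : Type*} [Field k] [Ring R] [Algebra k R] [FiniteDimensional k R]

/-- The radical of a local algebra with a trace form. -/
structure IsLocalTrace (N : Submodule k R) (τ : R →ₗ[k] k) : Prop where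
  sq : N * N ≤ N
  nil : ∀ S : Submodule k R, S ≤ N → S ≤ N * S ⊔ S * N → S = ⊥
  trace : ∀ x ∈ commOf N, τ x = 0
  nd : ∀ z ∈ N, τ z = 0 → (∀ a ∈ N, τ (z * a) = 0) → z = 0

/-- The length of the radical. -/
structure IsTopDegree (N : Submodule k R) (L : ℕ) : Prop where
  bot : N ^ (L + 1) = ⊥
  ne : N ^ L ≠ ⊥

namespace IsLocalTrace

variable {N : Submodule k R} {τ : R →ₗ[k] k} {L : ℕ}

theorem cyc (hC : IsLocalTrace N τ) {a b : R} (ha : a ∈ N) (hb : b ∈ N) : τ (a * b) = τ (b * a) :=
  sub_eq_zero.1 (by rw [← map_sub]; exact hC.trace _ (comm_mem_commOf N ha hb))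

theorem mem_self (hC : IsLocalTrace N τ) {m : ℕ} (hm : 1 ≤ m) {x : R} (hx : x ∈ N ^ m) : x ∈ N :=
  pow_le_self' N hC.sq hm hx

theorem eq_bot_of_stable (hC : IsLocalTrace N τ) {m : ℕ} (hm : 1 ≤ m) (h : N ^ m ≤ N ^ (m + 1)) :
    N ^ m = ⊥ :=
  hC.nil _ (pow_le_self' N hC.sq hm) (h.trans (by rw [pow_succ']; exact le_sup_left))

theorem exists_top (hC : IsLocalTrace N τ) (hne : N ≠ ⊥) : ∃ L, 1 ≤ L ∧ IsTopDegree N L := by
  classical
  have hdec : ∀ m, N ^ (m + 1) = ⊥ ∨ finrank k (N ^ (m + 1) : Submodule k R) + m ≤ finrank k N := by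
    intro m
    induction m with
    | zero => exact Or.inr (by rw [zero_add, pow_one, add_zero])
    | succ m ih =>
      rcases ih with h | h
      · exact Or.inl (le_bot_iff.1 ((pow_succ_le_pow N hC.sq (by omega)).trans h.le))
      by_cases h1 : N ^ (m + 1) ≤ N ^ (m + 1 + 1)
      · exact Or.inl (le_bot_iff.1
          ((pow_succ_le_pow N hC.sq (by omega)).trans (hC.eq_bot_of_stable (by omega) h1).le))
      · have := Submodule.finrank_lt_finrank_of_lt (lt_of_le_not_ge (pow_succ_le_pow N hC.sq (by omega)) h1)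
        exact Or.inr (by omega)
  have hex : ∃ m, N ^ (m + 1) = ⊥ := ⟨finrank k N + 1,
    (hdec (finrank k N + 1)).resolve_right (by omega)⟩
  refine ⟨Nat.find hex, ?_, Nat.find_spec hex, ?_⟩
  · by_contra h
    have h0 : Nat.find hex = 0 := by omega
    have := Nat.find_spec hex
    rw [h0, zero_add, pow_one] at this
    exact hne this
  · intro h
    rcases Nat.eq_zero_or_pos (Nat.find hex) with h0 | h0
    · refine hne ?_
      have := Nat.find_spec hex
      rwa [h0, zero_add, pow_one] at this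
    · obtain ⟨j, hj⟩ : ∃ j, Nat.find hex = j + 1 := ⟨_, (Nat.sub_add_cancel h0).symm⟩
      exact Nat.find_min hex (show j < Nat.find hex by omega) (hj ▸ h)

theorem eq_zero_of_lt (hC : IsLocalTrace N τ) (hL : IsTopDegree N L) {m : ℕ} (hm : L < m) {x : R}
    (hx : x ∈ N ^ m) : x = 0 := by
  have := pow_le_pow_of_le N hC.sq (by omega : 1 ≤ L + 1) hm hx
  rwa [hL.bot, Submodule.mem_bot] at this

theorem mul_eq_zero_of_lt (hC : IsLocalTrace N τ) (hL : IsTopDegree N L) {i j : ℕ} (h : L < i + j)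
    {a b : R} (ha : a ∈ N ^ i) (hb : b ∈ N ^ j) : a * b = 0 :=
  hC.eq_zero_of_lt hL h (mul_mem_pow N ha hb)

theorem top_eq_zero (hC : IsLocalTrace N τ) (hL : IsTopDegree N L) (hL1 : 1 ≤ L) {z : R}
    (hz : z ∈ N ^ L) (h : τ z = 0) : z = 0 :=
  hC.nd z (hC.mem_self hL1 hz) h fun a ha => by
    rw [hC.eq_zero_of_lt hL (Nat.lt_succ_self L) (show z * a ∈ N ^ (L + 1) by
      rw [pow_succ]; exact Submodule.mul_mem_mul hz ha), map_zero]

theorem finrank_top_le (hC : IsLocalTrace N τ) (hL : IsTopDegree N L) (hL1 : 1 ≤ L) :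
    finrank k (N ^ L : Submodule k R) ≤ 1 := by
  have hinj : Function.Injective (τ.domRestrict (N ^ L)) :=
    (injective_iff_map_eq_zero _).2 fun z hz => Subtype.ext (hC.top_eq_zero hL hL1 z.2 hz)
  exact (LinearMap.finrank_le_finrank_of_injective hinj).trans (by rw [finrank_self])

/-- The socle is outside the commutators. -/
theorem finrank_sup_top (hC : IsLocalTrace N τ) (hL : IsTopDegree N L) (hL1 : 1 ≤ L) :
    finrank k (commOf N) + 1 ≤ finrank k (commOf N ⊔ N ^ L : Submodule k R) := by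
  refine Submodule.finrank_lt_finrank_of_lt (lt_of_le_of_ne le_sup_left fun h => hL.ne ?_)
  refine (Submodule.eq_bot_iff _).2 fun z hz => hC.top_eq_zero hL hL1 hz (hC.trace z ?_)
  rw [h]
  exact Submodule.mem_sup_right hz

end IsLocalTrace

section Generators

variable {N : Submodule k R} {n : ℕ} {g : Fin n → R}

/-- Combinations of the generators. -/
noncomputable def comb (g : Fin n → R) : (Fin n → k) →ₗ[k] R := Fintype.linearCombination k g

theorem comb_apply (g : Fin n → R) (a : Fin n → k) : comb (k := k) g a = ∑ i, a i • g i := rfl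

theorem comb_single (g : Fin n → R) (i : Fin n) : comb (k := k) g (Pi.single i 1) = g i := by
  classical
  simp [comb, Fintype.linearCombination_apply_single]

theorem comb_mem (hg : ∀ i, g i ∈ N) (a : Fin n → k) : comb g a ∈ N := by
  rw [comb_apply]
  exact Submodule.sum_mem _ fun i _ => N.smul_mem _ (hg i)

/-- Generators of the subspace modulo its square. -/
structure IsGen (N : Submodule k R) (g : Fin n → R) : Prop where
  mem : ∀ i, g i ∈ N
  gen : N ≤ Submodule.span k (Set.range g) ⊔ N ^ 2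

theorem IsGen.exists_comb (hG : IsGen N g) {x : R} (hx : x ∈ N) :
    ∃ a : Fin n → k, x - comb g a ∈ N ^ 2 := by
  obtain ⟨s, hs, t, ht, rfl⟩ := Submodule.mem_sup.1 (hG.gen hx)
  obtain ⟨a, rfl⟩ := (Submodule.mem_span_range_iff_exists_fun k).1 hs
  exact ⟨a, by rw [comb_apply, add_sub_cancel_left]; exact ht⟩

theorem IsGen.pow_succ_le (hG : IsGen N g) {m : ℕ} (S : Submodule k R)
    (h : ∀ z ∈ N ^ m, ∀ i, z * g i ∈ S) : N ^ (m + 1) ≤ S ⊔ N ^ (m + 2) := by
  rw [pow_succ N m]
  refine Submodule.mul_le.2 fun z hz x hx => ?_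
  obtain ⟨a, ha⟩ := hG.exists_comb hx
  rw [show z * x = z * comb g a + z * (x - comb g a) by rw [mul_sub, add_sub_cancel]]
  refine add_mem (Submodule.mem_sup_left ?_) (Submodule.mem_sup_right (mul_mem_pow N hz ha))
  rw [comb_apply, Finset.mul_sum]
  exact Submodule.sum_mem _ fun i _ => by rw [mul_smul_comm]; exact S.smul_mem _ (h z hz i)

theorem IsGen.sq_le (hG : IsGen N g) :
    N ^ 2 ≤ Submodule.span k (Set.range fun q : Fin n × Fin n => g q.1 * g q.2) ⊔ N ^ 3 := by
  refine (hG.pow_succ_le (m := 1) (Submodule.span k (Set.range fun q : Fin n × Fin n => g q.1 * g q.2) ⊔ N ^ 3)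
    fun z hz i => ?_).trans (sup_le le_rfl le_sup_right)
  rw [pow_one] at hz
  obtain ⟨a, ha⟩ := hG.exists_comb hz
  rw [show z * g i = comb g a * g i + (z - comb g a) * g i by rw [← add_mul, add_sub_cancel]]
  refine add_mem (Submodule.mem_sup_left ?_) (Submodule.mem_sup_right ?_)
  · rw [comb_apply, Finset.sum_mul]
    exact Submodule.sum_mem _ fun l _ => by
      rw [smul_mul_assoc]; exact Submodule.smul_mem _ _ (Submodule.subset_span ⟨(l, i), rfl⟩)
  · rw [pow_succ]; exact Submodule.mul_mem_mul ha (hG.mem i)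

theorem IsGen.cube_le (hG : IsGen N g) :
    N ^ 3 ≤ Submodule.span k (Set.range fun q : (Fin n × Fin n) × Fin n => g q.1.1 * g q.1.2 * g q.2) ⊔
      N ^ 4 := by
  refine (hG.pow_succ_le (m := 2) (Submodule.span k
    (Set.range fun q : (Fin n × Fin n) × Fin n => g q.1.1 * g q.1.2 * g q.2) ⊔ N ^ 4)
    fun z hz i => ?_).trans (sup_le le_rfl le_sup_right)
  obtain ⟨s, hs, t, ht, rfl⟩ := Submodule.mem_sup.1 (hG.sq_le hz)
  rw [add_mul]
  refine add_mem (Submodule.mem_sup_left ?_) (Submodule.mem_sup_right ?_)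
  · obtain ⟨a, rfl⟩ := (Submodule.mem_span_range_iff_exists_fun k).1 hs
    rw [Finset.sum_mul]
    exact Submodule.sum_mem _ fun q _ => by
      rw [smul_mul_assoc]; exact Submodule.smul_mem _ _ (Submodule.subset_span ⟨(q, i), rfl⟩)
  · rw [pow_succ]; exact Submodule.mul_mem_mul ht (hG.mem i)

/-- Commutators of generators. -/
def genComm (k : Type*) {R : Type*} [Field k] [Ring R] [Algebra k R] {n : ℕ} (g : Fin n → R) :
    Submodule k R :=
  Submodule.span k (Set.range fun q : Fin n × Fin n => g q.1 * g q.2 - g q.2 * g q.1)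

/-- Commutators with one generator and one element of the square. -/
def genComm₂ (N : Submodule k R) (g : Fin n → R) : Submodule k R :=
  Submodule.span k {c | ∃ (i : Fin n) (a : R), a ∈ N ^ 2 ∧ c = g i * a - a * g i}

theorem genComm₂_le (hg : ∀ i, g i ∈ N) : genComm₂ N g ≤ N ^ 3 := Submodule.span_le.2 <| by
  rintro _ ⟨i, a, ha, rfl⟩
  refine sub_mem ?_ ?_
  · rw [pow_succ']; exact Submodule.mul_mem_mul (hg i) ha
  · rw [pow_succ]; exact Submodule.mul_mem_mul ha (hg i)

theorem comm_comb_mem (a b : Fin n → k) :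
    comb g a * comb g b - comb g b * comb g a ∈ genComm k g := by
  rw [comb_apply, comb_apply, Finset.sum_mul_sum, Finset.sum_mul_sum,
    Finset.sum_comm (f := fun i j => b i • g i * a j • g j), ← Finset.sum_sub_distrib]
  refine Submodule.sum_mem _ fun i _ => ?_
  rw [← Finset.sum_sub_distrib]
  refine Submodule.sum_mem _ fun j _ => ?_
  rw [smul_mul_smul_comm, smul_mul_smul_comm, mul_comm (b _) (a _), ← smul_sub]
  exact Submodule.smul_mem _ _ (Submodule.subset_span ⟨(i, j), rfl⟩)

theorem comm_comb_mem₂ (a : Fin n → k) {z : R} (hz : z ∈ N ^ 2) :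
    comb g a * z - z * comb g a ∈ genComm₂ N g := by
  simp only [comb_apply, Finset.sum_mul, Finset.mul_sum, smul_mul_assoc, mul_smul_comm,
    ← Finset.sum_sub_distrib, ← smul_sub]
  exact Submodule.sum_mem _ fun i _ =>
    Submodule.smul_mem _ _ (Submodule.subset_span ⟨i, z, hz, rfl⟩)

/-- The commutators modulo the fourth power. -/
theorem IsGen.commOf_le (hG : IsGen N g) : commOf N ≤ genComm k g ⊔ genComm₂ N g ⊔ N ^ 4 := by
  refine Submodule.span_le.2 ?_
  rintro _ ⟨x, hx, y, hy, rfl⟩
  obtain ⟨a, ha⟩ := hG.exists_comb hx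
  obtain ⟨b, hb⟩ := hG.exists_comb hy
  set x' := x - comb g a with hx'
  set y' := y - comb g b with hy'
  have e : x * y - y * x = (comb g a * comb g b - comb g b * comb g a) +
      ((comb g a * y' - y' * comb g a) - (comb g b * x' - x' * comb g b)) + (x' * y' - y' * x') := by
    rw [hx', hy']
    simp only [mul_sub, sub_mul]
    abel
  rw [SetLike.mem_coe, e]
  refine add_mem (add_mem (Submodule.mem_sup_left (Submodule.mem_sup_left (comm_comb_mem a b)))
    (Submodule.mem_sup_left (Submodule.mem_sup_right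
      (sub_mem (comm_comb_mem₂ a hb) (comm_comb_mem₂ b ha))))) (Submodule.mem_sup_right ?_)
  exact sub_mem (mul_mem_pow N ha hb) (mul_mem_pow N hb ha)

theorem IsGen.commOf_le_cube (hG : IsGen N g) (hN2 : N * N ≤ N) : commOf N ≤ genComm k g ⊔ N ^ 3 :=
  hG.commOf_le.trans (sup_le (sup_le le_sup_left ((genComm₂_le hG.mem).trans le_sup_right))
    ((pow_succ_le_pow N hN2 (by omega)).trans le_sup_right))

/-- The layer map has lifts forming a basis. -/
theorem exists_gen (N : Submodule k R) (hN2 : N * N ≤ N) {r : ℕ} (hr : layerDim N 1 = r) :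
    ∃ g : Fin r → R, IsGen N g ∧ ∀ a : Fin r → k, comb g a ∈ N ^ 2 → a = 0 := by
  classical
  set S := (N ^ 1).map (N ^ (1 + 1)).mkQ with hS
  have hr' : finrank k S = r := hr
  let b := Module.finBasisOfFinrankEq k S hr'
  choose g hg hgq using fun i => Submodule.mem_map.1 (b i).2
  refine ⟨g, ⟨fun i => by simpa using hg i, fun x hx => ?_⟩, fun a ha => ?_⟩
  · have hxS : (N ^ (1 + 1)).mkQ x ∈ S := Submodule.mem_map_of_mem (by rwa [pow_one])
    set c := b.repr ⟨_, hxS⟩ with hc
    have e : ∑ i, c i • (b i : R ⧸ N ^ (1 + 1)) = (N ^ (1 + 1)).mkQ x := by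
      have h1 := congrArg S.subtype (b.sum_repr ⟨_, hxS⟩)
      rw [map_sum] at h1
      simp only [map_smul, Submodule.subtype_apply] at h1
      exact h1
    refine Submodule.mem_sup.2 ⟨∑ i, c i • g i, Submodule.sum_mem _ fun i _ =>
      Submodule.smul_mem _ _ (Submodule.subset_span ⟨i, rfl⟩), x - ∑ i, c i • g i, ?_, add_sub_cancel _ _⟩
    rw [← Submodule.Quotient.mk_eq_zero, ← Submodule.mkQ_apply, map_sub, map_sum, sub_eq_zero,
      ← e]
    exact Finset.sum_congr rfl fun i _ => by rw [map_smul, hgq]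
  · have h1 : (N ^ (1 + 1)).mkQ (comb g a) = 0 := (Submodule.Quotient.mk_eq_zero _).2 ha
    rw [comb_apply, map_sum] at h1
    simp only [map_smul, hgq] at h1
    have h2 : ∑ i, a i • b i = 0 := Subtype.ext (by simpa using h1)
    exact funext (Fintype.linearIndependent_iff.1 b.linearIndependent a h2)

/-- Generators through a given element. -/
theorem IsGen.exists_through (hG : IsGen N g) {x : R} (hx : x ∈ N) (hx2 : x ∉ N ^ 2) :
    ∃ (g' : Fin n → R) (i : Fin n), IsGen N g' ∧ g' i = x := by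
  classical
  obtain ⟨a, ha⟩ := hG.exists_comb hx
  obtain ⟨i, hi⟩ : ∃ i, a i ≠ 0 := by
    by_contra h
    push Not at h
    exact hx2 (by simpa [comb_apply, h] using ha)
  refine ⟨Function.update g i x, i, ⟨fun j => ?_, ?_⟩, by simp⟩
  · by_cases h : j = i
    · subst h; simpa using hx
    · simpa [h] using hG.mem j
  · refine hG.gen.trans (sup_le (Submodule.span_le.2 ?_) le_sup_right)
    rintro _ ⟨j, rfl⟩
    by_cases h : j = i
    swap
    · exact Submodule.mem_sup_left (Submodule.subset_span ⟨j, by simp [h]⟩)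
    subst h
    set T := Submodule.span k (Set.range (Function.update g j x)) ⊔ N ^ 2
    have hsum : a j • g j ∈ T := by
      have e : a j • g j = x - (x - comb g a) - ∑ l ∈ Finset.univ.erase j, a l • g l := by
        rw [sub_sub_cancel, comb_apply, ← Finset.add_sum_erase _ _ (Finset.mem_univ j),
          add_sub_cancel_right]
      rw [e]
      refine sub_mem (sub_mem (Submodule.mem_sup_left (Submodule.subset_span ⟨j, by simp⟩))
        (Submodule.mem_sup_right ha)) (Submodule.sum_mem _ fun l hl => T.smul_mem _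
          (Submodule.mem_sup_left (Submodule.subset_span ⟨l, by simp [(Finset.mem_erase.1 hl).1]⟩)))
    exact (T.smul_mem_iff hi).1 hsum

end Generators

namespace IsLocalTrace

variable {N : Submodule k R} {τ : R →ₗ[k] k} {L n : ℕ} {g : Fin n → R}

theorem mul_right_congr (hC : IsLocalTrace N τ) (hL : IsTopDegree N L) (hG : IsGen N g) {m : ℕ}
    (hm : L ≤ m + 1) {z x : R} (hz : z ∈ N ^ m) (hx : x ∈ N) :
    ∃ a : Fin n → k, z * x = ∑ i, a i • (z * g i) := by
  obtain ⟨a, ha⟩ := hG.exists_comb hx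
  refine ⟨a, ?_⟩
  have h0 := hC.mul_eq_zero_of_lt hL (show L < m + 2 by omega) hz ha
  rw [mul_sub, sub_eq_zero] at h0
  rw [h0, comb_apply, Finset.mul_sum]
  simp only [mul_smul_comm]

/-- **No rank-one nonsymmetric form on the top.** -/
theorem false_of_scalar (hC : IsLocalTrace N τ) (hL : IsTopDegree N L) (hG : IsGen N g) (hL4 : 4 ≤ L)
    (B : Fin n → Fin n → k) {p q : Fin n} (hB : B p q ≠ B q p) (c : R →ₗ[k] k)
    (h : ∀ i j, ∀ X ∈ N ^ (L - 2), τ (g i * g j * X) = B i j * c X) : False := by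
  obtain ⟨l, rfl⟩ : ∃ l, L = l + 3 := ⟨L - 3, by omega⟩
  have hl : 1 ≤ l := by omega
  simp only [show l + 3 - 2 = l + 1 by omega] at h
  have key : ∀ Y ∈ N ^ l, (∀ i, c (Y * g i) = 0) ∧ ∀ i, c (g i * Y) = 0 := by
    intro Y hY
    set a : Fin n → k := fun i => c (Y * g i) with hadef
    set b : Fin n → k := fun i => c (g i * Y) with hbdef
    have e : ∀ i j t, B i j * b t = B j t * a i := fun i j t => by
      rw [hadef, hbdef]
      have h1 := h i j (g t * Y) (by rw [pow_succ']; exact Submodule.mul_mem_mul (hG.mem t) hY)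
      have h2 := h j t (Y * g i) (by rw [pow_succ]; exact Submodule.mul_mem_mul hY (hG.mem i))
      simp only
      rw [← h1, ← h2, show g i * g j * (g t * Y) = g i * (g j * g t * Y) by simp only [mul_assoc],
        hC.cyc (hG.mem i) ?_, mul_assoc]
      exact hC.mem_self (m := 2 + l) (by omega)
        (mul_mem_pow N (by rw [pow_two]; exact Submodule.mul_mem_mul (hG.mem j) (hG.mem t)) hY)
    have hb : ∀ t, b t = 0 := by
      intro t
      by_contra ht
      set d : Fin n → k := fun j => B j t / b t with hddef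
      have hBd : ∀ i j, B i j = d j * a i := fun i j => by
        rw [hddef]; field_simp; exact e i j t
      obtain ⟨i₀, hi₀⟩ : ∃ i, a i ≠ 0 := by
        by_contra h0
        push Not at h0
        exact hB (by simp [hBd, h0])
      have hd : ∀ j, d j = d t / b t * a j := fun j => by
        have e1 := e i₀ j t
        rw [hBd i₀ j, hBd j t] at e1
        field_simp
        refine mul_left_cancel₀ hi₀ ?_
        linear_combination e1
      exact hB (by rw [hBd, hBd, hd p, hd q]; ring)
    refine ⟨fun i => ?_, hb⟩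
    by_contra hai
    have hzero : ∀ j t, B j t = 0 := fun j t => by
      have e1 := e i j t
      rw [hb t, mul_zero] at e1
      exact (mul_eq_zero.1 e1.symm).resolve_right hai
    exact hB (by rw [hzero, hzero])
  have hc : ∀ X ∈ N ^ (l + 1), ∀ i j, τ (g i * g j * X) = 0 := by
    intro X hX i j
    rw [pow_succ] at hX
    refine Submodule.mul_induction_on hX (fun Y hY x hx => ?_) fun a b ha hb => by
      rw [mul_add, map_add, ha, hb, add_zero]
    obtain ⟨a, ha⟩ := hC.mul_right_congr hL hG (m := 2 + l) (by omega)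
      (mul_mem_pow N (by rw [pow_two]; exact Submodule.mul_mem_mul (hG.mem i) (hG.mem j)) hY) hx
    rw [← mul_assoc, ha, map_sum]
    refine Finset.sum_eq_zero fun t _ => ?_
    rw [map_smul, mul_assoc (g i * g j), h i j _ (by rw [pow_succ]; exact Submodule.mul_mem_mul hY (hG.mem t)),
      (key Y hY).1 t, mul_zero, smul_zero]
  refine hL.ne ((Submodule.eq_bot_iff _).2 fun z hz => hC.top_eq_zero hL (by omega) hz ?_)
  rw [show l + 3 = 2 + (l + 1) by omega, pow_add] at hz
  refine Submodule.mul_induction_on hz (fun s hs X hX => ?_) fun a b ha hb => by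
    rw [map_add, ha, hb, add_zero]
  obtain ⟨s1, hs1, s2, hs2, rfl⟩ := Submodule.mem_sup.1 (hG.sq_le hs)
  rw [add_mul, hC.mul_eq_zero_of_lt hL (by omega) hs2 hX, add_zero]
  obtain ⟨a, rfl⟩ := (Submodule.mem_span_range_iff_exists_fun k).1 hs1
  rw [Finset.sum_mul, map_sum]
  exact Finset.sum_eq_zero fun q _ => by rw [smul_mul_assoc, map_smul, hc X hX, smul_zero]

/-- **No square that is detected by one commutator.** -/
theorem false_of_detect (hC : IsLocalTrace N τ) (hL : IsTopDegree N L) (hG : IsGen N g) (hL4 : 4 ≤ L)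
    (p q : Fin n)
    (h : ∀ X ∈ N ^ (L - 2), τ ((g p * g q - g q * g p) * X) = 0 → ∀ i j, τ (g i * g j * X) = 0) :
    False := by
  classical
  set c : R →ₗ[k] k := τ.comp (LinearMap.mulLeft k (g p * g q - g q * g p))
  have hc : ∀ X, c X = τ ((g p * g q - g q * g p) * X) := fun X => rfl
  by_cases hall : ∀ X ∈ N ^ (L - 2), c X = 0
  · have h0 : ∀ i j, ∀ X ∈ N ^ (L - 2), τ (g i * g j * X) = 0 := fun i j X hX =>
      h X hX (by rw [← hc]; exact hall X hX) i j
    refine hC.false_of_scalar hL hG hL4 (fun i j => if i = p ∧ j = q then 1 else 0) (p := p) (q := q) ?_ 0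
      fun i j X hX => by rw [h0 i j X hX, LinearMap.zero_apply, mul_zero]
    by_cases hpq : p = q
    · subst hpq
      exfalso
      refine hL.ne ((Submodule.eq_bot_iff _).2 fun z hz => hC.top_eq_zero hL (by omega) hz ?_)
      rw [show L = 2 + (L - 2) by omega, pow_add] at hz
      refine Submodule.mul_induction_on hz (fun s hs X hX => ?_) fun a b ha hb => by
        rw [map_add, ha, hb, add_zero]
      obtain ⟨s1, hs1, s2, hs2, rfl⟩ := Submodule.mem_sup.1 (hG.sq_le hs)
      rw [add_mul, hC.mul_eq_zero_of_lt hL (by omega) hs2 hX, add_zero]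
      obtain ⟨a, rfl⟩ := (Submodule.mem_span_range_iff_exists_fun k).1 hs1
      rw [Finset.sum_mul, map_sum]
      exact Finset.sum_eq_zero fun q _ => by rw [smul_mul_assoc, map_smul, h0 _ _ X hX, smul_zero]
    · simp [Ne.symm hpq]
  push Not at hall
  obtain ⟨X₁, hX₁, hX₁0⟩ := hall
  set X₀ := (c X₁)⁻¹ • X₁
  have hX₀ : X₀ ∈ N ^ (L - 2) := Submodule.smul_mem _ _ hX₁
  have hcX₀ : c X₀ = 1 := by rw [map_smul, smul_eq_mul, inv_mul_cancel₀ hX₁0]
  refine hC.false_of_scalar hL hG hL4 (fun i j => τ (g i * g j * X₀)) (p := p) (q := q) ?_ c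
    fun i j X hX => ?_
  · intro he
    have := hc X₀
    rw [hcX₀, sub_mul, map_sub, he, sub_self] at this
    exact one_ne_zero this
  · have h1 := h (X - c X • X₀) (sub_mem hX (Submodule.smul_mem _ _ hX₀))
      (by rw [← hc, map_sub, map_smul, hcX₀, smul_eq_mul, mul_one, sub_self]) i j
    rw [mul_sub, map_sub, mul_smul_comm, map_smul, sub_eq_zero, smul_eq_mul] at h1
    rw [h1, mul_comm]

/-- An element killing the socle pairing moves to the square. -/
theorem layerDim_one_le (hC : IsLocalTrace N τ) (hL : IsTopDegree N L) (hL2 : 2 ≤ L)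
    (hrad : ∀ x ∈ N, (∀ X ∈ N ^ (L - 1), x * X = 0) → x ∈ N ^ 2) :
    layerDim N 1 ≤ layerDim N (L - 1) := by
  classical
  obtain ⟨l, rfl⟩ : ∃ l, L = l + 1 := ⟨L - 1, by omega⟩
  have hl : 1 ≤ l := by omega
  rw [Nat.add_sub_cancel] at hrad ⊢
  let Φ : N →ₗ[k] Module.Dual k (N ^ l : Submodule k R) :=
    (((LinearMap.mul k R).compr₂ τ).compl₁₂ N.subtype (N ^ l).subtype)
  have hΦ : ∀ x y, Φ x y = τ ((x : R) * (y : R)) := fun x y => rfl
  have hker : LinearMap.ker Φ ≤ (N ^ 2).comap N.subtype := fun x hx => hrad x x.2 fun X hX => by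
    refine hC.top_eq_zero hL (by omega) (by rw [pow_succ']; exact Submodule.mul_mem_mul x.2 hX) ?_
    have := LinearMap.congr_fun (LinearMap.mem_ker.1 hx) ⟨X, hX⟩
    rwa [hΦ, LinearMap.zero_apply] at this
  have hran : LinearMap.range Φ ≤ ((N ^ (l + 1)).comap (N ^ l).subtype).dualAnnihilator := by
    rintro _ ⟨x, rfl⟩
    rw [Submodule.mem_dualAnnihilator]
    intro y hy
    rw [hΦ, hC.eq_zero_of_lt hL (m := 1 + (l + 1)) (by omega) (x := (x : R) * (y : R))
      (mul_mem_pow N (by rw [pow_one]; exact x.2) hy), map_zero]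
  have h1 := LinearMap.finrank_range_add_finrank_ker Φ
  have h2 := Submodule.finrank_mono hran
  have h3 := Subspace.finrank_add_finrank_dualAnnihilator_eq ((N ^ (l + 1)).comap (N ^ l).subtype)
  have h4 := Submodule.finrank_mono hker
  rw [(Submodule.comapSubtypeEquivOfLe (pow_le_self' N hC.sq (by omega : 1 ≤ 2))).finrank_eq] at h4
  rw [(Submodule.comapSubtypeEquivOfLe (pow_succ_le_pow N hC.sq hl)).finrank_eq,
    finrank_pow N hC.sq hl] at h3
  have h5 := finrank_pow N hC.sq (le_refl 1)
  rw [pow_one, show 1 + 1 = 2 from rfl] at h5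
  omega

theorem layerDim_le_of_le (hC : IsLocalTrace N τ) {c : ℕ} (hc : c ≤ 2) {i : ℕ} (hi : 2 ≤ i)
    (h : layerDim N i ≤ c) : ∀ j, i ≤ j → layerDim N j ≤ c := fun j hj => by
  induction j, hj using Nat.le_induction with
  | base => exact h
  | succ j hij ih => exact layerDim_succ_le N hC.sq (hi.trans hij) hc ih

end IsLocalTrace

end Cfsg.Lib.Blocks.RankOneFive
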