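import Mathlib

/-!
# The twisted algebra of three layers

Three consecutive layers of a graded algebra, with an element whose left and right multiplications
are bijective, give a unital algebra with an automorphism.
-/

set_option autoImplicit false
set_option linter.unusedSectionVars false

namespace Cfsg.Lib.Blocks.RankOneFive

open Module

section Characters

variable {k V : Type*} [Field k] [AddCommGroup V] [Module k V]

/-- Distinct multiplicative functionals are independent. -/
theorem chars_indep (m : V →ₗ[k] V →ₗ[k] V) (u : V) {ι : Type*} [DecidableEq ι]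
    (χ : ι → Module.Dual k V) (hm : ∀ i a b, χ i (m a b) = χ i a * χ i b) (h1 : ∀ i, χ i u = 1)
    (hinj : Function.Injective χ) : ∀ (s : Finset ι) (c : ι → k),
      ∑ i ∈ s, c i • χ i = 0 → ∀ i ∈ s, c i = 0 := by
  intro s
  induction s using Finset.induction_on with
  | empty => simp
  | insert j s hj ih =>
    intro c hc
    have hs : ∀ i ∈ s, c i = 0 := fun i hi => by
      obtain ⟨a, ha⟩ : ∃ a, χ i a ≠ χ j a := by
        by_contra h
        push Not at h
        exact hj (hinj (LinearMap.ext h) ▸ hi)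
      have h2 := ih (fun l => c l * (χ l a - χ j a)) (LinearMap.ext fun b => by
        have e1 := LinearMap.congr_fun hc (m a b)
        have e2 := LinearMap.congr_fun hc b
        simp only [Finset.sum_insert hj, LinearMap.add_apply, LinearMap.sum_apply, LinearMap.smul_apply,
          smul_eq_mul, LinearMap.zero_apply, hm] at e1 e2 ⊢
        have e3 : ∑ l ∈ s, c l * (χ l a - χ j a) * χ l b =
            ∑ l ∈ s, c l * (χ l a * χ l b) - χ j a * ∑ l ∈ s, c l * χ l b := by
          rw [Finset.mul_sum, ← Finset.sum_sub_distrib]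
          exact Finset.sum_congr rfl fun l _ => by ring
        rw [e3]
        linear_combination e1 - χ j a * e2) i hi
      exact (mul_eq_zero.1 h2).resolve_right (sub_ne_zero.2 ha)
    have hj0 : c j = 0 := by
      rw [Finset.sum_insert hj, Finset.sum_eq_zero fun i hi => by rw [hs i hi, zero_smul],
        add_zero] at hc
      simpa [h1] using LinearMap.congr_fun hc u
    intro i hi
    rcases Finset.mem_insert.1 hi with rfl | hi
    · exact hj0
    · exact hs i hi

/-- An algebra of dimension at most three over an algebraically closed field has a character. -/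
theorem exists_algHom_field [IsAlgClosed k] {A : Type*} [Ring A] [Algebra k A]
    [FiniteDimensional k A] [Nontrivial A] (h : finrank k A ≤ 3) : Nonempty (A →ₐ[k] k) := by
  classical
  haveI : IsArtinianRing A := IsArtinianRing.of_finite k A
  obtain ⟨m, d, hd, ⟨E⟩⟩ :=
    IsSemisimpleRing.exists_algEquiv_pi_matrix_of_isAlgClosed k (A ⧸ Ring.jacobson A)
  set π : A →ₐ[k] Π i, Matrix (Fin (d i)) (Fin (d i)) k :=
    E.toAlgHom.comp (Ideal.Quotient.mkₐ k (Ring.jacobson A)) with hπ
  have hsurj : Function.Surjective π := E.surjective.comp (Ideal.Quotient.mk_surjective)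
  rcases Nat.eq_zero_or_pos m with rfl | hm
  · exfalso
    obtain ⟨N, hN⟩ : IsNilpotent (Ring.jacobson A) := IsSemiprimaryRing.isNilpotent
    have h1 : (1 : A) ∈ Ring.jacobson A := by
      rw [← Ideal.Quotient.eq_zero_iff_mem]
      exact E.injective (funext fun i => i.elim0)
    have h2 : (1 : A) ∈ Ring.jacobson A ^ N := by
      rw [(Ideal.eq_top_iff_one _).2 h1, Ideal.top_pow]
      trivial
    rw [hN] at h2
    exact one_ne_zero h2
  let i₀ : Fin m := ⟨0, hm⟩
  haveI := hd i₀
  have hs : Function.Surjective ((Pi.evalAlgHom k _ i₀).comp π) := fun M => by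
    obtain ⟨x, hx⟩ := hsurj (Function.update 0 i₀ M)
    exact ⟨x, by simp [hx]⟩
  have hle : d i₀ * d i₀ ≤ 3 := by
    refine le_trans ?_ h
    rw [← Fintype.card_fin (d i₀), ← mul_one (Fintype.card _ * Fintype.card _), ← finrank_self k,
      ← Module.finrank_matrix k k]
    exact LinearMap.finrank_le_finrank_of_surjective
      (f := ((Pi.evalAlgHom k _ i₀).comp π).toLinearMap) hs
  have h1 : d i₀ = 1 := by
    have := Nat.pos_of_ne_zero (NeZero.ne (d i₀))
    by_contra hne
    have : 2 * 2 ≤ d i₀ * d i₀ := Nat.mul_le_mul (by omega) (by omega)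
    omega
  let ev : Matrix (Fin (d i₀)) (Fin (d i₀)) k →ₐ[k] k :=
    AlgHom.ofLinearMap (Matrix.traceLinearMap (Fin (d i₀)) k k)
      (by simp [h1]) (fun a b => by
        haveI : Subsingleton (Fin (d i₀)) := by rw [h1]; infer_instance
        simp [Matrix.trace, Matrix.mul_apply, Fintype.sum_subsingleton _ (0 : Fin (d i₀))])
  exact ⟨ev.comp ((Pi.evalAlgHom k _ i₀).comp π)⟩

/-- A small unital associative product has a multiplicative functional. -/
theorem exists_char [IsAlgClosed k] [FiniteDimensional k V] (h3 : finrank k V ≤ 3)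
    (m : V →ₗ[k] V →ₗ[k] V) (u : V) (hu0 : u ≠ 0) (hassoc : ∀ a b c, m (m a b) c = m a (m b c))
    (hul : ∀ b, m u b = b) (hur : ∀ b, m b u = b) :
    ∃ χ : Module.Dual k V, (∀ a b, χ (m a b) = χ a * χ b) ∧ χ u = 1 := by
  have hone : m u = 1 := LinearMap.ext hul
  have hmul : ∀ a b, m a * m b = m (m a b) := fun a b => LinearMap.ext fun c => (hassoc a b c).symm
  let A : Subalgebra k (Module.End k V) := (LinearMap.range m).toSubalgebra ⟨u, hone⟩
    (by rintro _ _ ⟨a, rfl⟩ ⟨b, rfl⟩; exact ⟨m a b, (hmul a b).symm⟩)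
  let e : V →ₗ[k] A :=
    { toFun := fun a => ⟨m a, a, rfl⟩
      map_add' := fun a b => Subtype.ext (map_add m a b)
      map_smul' := fun c a => Subtype.ext (map_smul m c a) }
  have hes : Function.Surjective e := by
    rintro ⟨_, a, rfl⟩
    exact ⟨a, rfl⟩
  haveI : Nontrivial A := ⟨⟨e u, 0, fun h => hu0 (by
    rw [← hul u, show m u = 0 from congrArg Subtype.val h, LinearMap.zero_apply])⟩⟩
  haveI : Module.Finite k A := Module.Finite.of_surjective e hes
  obtain ⟨ev⟩ := exists_algHom_field (k := k) (A := A)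
    ((LinearMap.finrank_le_finrank_of_surjective hes).trans h3)
  refine ⟨ev.toLinearMap.comp e, fun a b => ?_, ?_⟩
  · show ev (e (m a b)) = ev (e a) * ev (e b)
    rw [← map_mul]
    exact congrArg ev (Subtype.ext (hmul a b).symm)
  · show ev (e u) = 1
    rw [← map_one ev]
    exact congrArg ev (Subtype.ext hone)

end Characters

section Twist

variable {k V U W : Type*} [Field k] [AddCommGroup V] [Module k V] [AddCommGroup U] [Module k U]
  [AddCommGroup W] [Module k W] [FiniteDimensional k V] [FiniteDimensional k U]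
  [FiniteDimensional k W]
  (μ : V →ₗ[k] V →ₗ[k] U) (ρ : U →ₗ[k] V →ₗ[k] W) (lam : V →ₗ[k] U →ₗ[k] W)

/-- A functional on the third layer invariant under rotation of words. -/
def IsCyclicFun (f : Module.Dual k W) : Prop :=
  ∀ a b c, f (ρ (μ a b) c) = f (ρ (μ b c) a)

/-- **A cyclic functional, or two generators with vanishing squares.** -/
theorem exists_cyclic_of_regular [IsAlgClosed k]
    (hassoc : ∀ a b c, ρ (μ a b) c = lam a (μ b c))
    (hW : Submodule.span k {z | ∃ a b c, z = ρ (μ a b) c} = ⊤)
    (hU : finrank k U = finrank k V) (hWn : finrank k V ≤ finrank k W)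
    (hn : finrank k V = 2 ∨ (finrank k V = 3 ∧
      Submodule.span k {x | ∃ a b, x = μ a b - μ b a} = ⊤))
    {u : V} (hR : Function.Injective (μ.flip u)) (hL : Function.Injective (μ u)) :
    (∃ f : Module.Dual k W, f ≠ 0 ∧ IsCyclicFun μ ρ f) ∨
      (finrank k V = 2 ∧ ∃ x y, Submodule.span k {x, y} = ⊤ ∧ μ x x = 0 ∧ μ y y = 0) := by
  classical
  have hRs : Function.Surjective (μ.flip u) :=
    (LinearMap.injective_iff_surjective_of_finrank_eq_finrank hU.symm).1 hR
  have hLs : Function.Surjective (μ u) :=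
    (LinearMap.injective_iff_surjective_of_finrank_eq_finrank hU.symm).1 hL
  let Ru := LinearEquiv.ofBijective (μ.flip u) ⟨hR, hRs⟩
  let Lu := LinearEquiv.ofBijective (μ u) ⟨hL, hLs⟩
  let σ : V ≃ₗ[k] V := Ru.trans Lu.symm
  have hσ : ∀ b, μ u (σ b) = μ b u := fun b => Lu.apply_symm_apply (Ru b)
  let m : V →ₗ[k] V →ₗ[k] V :=
    (μ.compl₂ σ.toLinearMap).compr₂ Ru.symm.toLinearMap
  have hm : ∀ a b, μ (m a b) u = μ a (σ b) := fun a b => Ru.apply_symm_apply (μ a (σ b))
  have hσu : σ u = u := hL (hσ u)
  have hsplit : ∀ a b, ∃ x, μ a b = μ x u := fun a b =>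
    ⟨m a (σ.symm b), by rw [hm, σ.apply_symm_apply]⟩
  -- the cube of the unit is bijective
  let G : V →ₗ[k] W := (ρ.flip u).comp (μ.flip u)
  have hG : ∀ x, G x = ρ (μ x u) u := fun x => rfl
  have hGs : Function.Surjective G := by
    rw [← LinearMap.range_eq_top, eq_top_iff, ← hW, Submodule.span_le]
    rintro _ ⟨a, b, c, rfl⟩
    obtain ⟨x, hx⟩ := hsplit a b
    obtain ⟨y, hy⟩ := hsplit u c
    obtain ⟨z, hz⟩ := hsplit x y
    exact ⟨z, by rw [hG, ← hz, hx, hassoc x u c, hy, ← hassoc]⟩
  have hnW : finrank k V = finrank k W :=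
    le_antisymm hWn (LinearMap.finrank_le_finrank_of_surjective hGs)
  have hGi : Function.Injective G :=
    (LinearMap.injective_iff_surjective_of_finrank_eq_finrank hnW).2 hGs
  have hlam : Function.Injective (lam u) := by
    refine (injective_iff_map_eq_zero _).2 fun x hx => ?_
    obtain ⟨y, rfl⟩ := hRs x
    change lam u (μ y u) = 0 at hx
    rw [← hassoc] at hx
    obtain ⟨z, hz⟩ := hsplit u y
    rw [hz, ← hG] at hx
    have hz0 : z = 0 := hGi (hx.trans (map_zero G).symm)
    rw [hz0, map_zero, LinearMap.zero_apply] at hz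
    rw [hL (hz.trans (map_zero (μ u)).symm), map_zero]
  -- the automorphism and associativity
  have hhom : ∀ b c, μ (σ b) (σ (σ c)) = μ (σ (m b c)) u := fun b c => hlam (by
    rw [← hassoc, ← hassoc, hσ, hσ, hassoc, hσ, ← hassoc, hm])
  have hσm : ∀ b c, σ (m b c) = m (σ b) (σ c) := fun b c => hR (by
    show μ (σ (m b c)) u = μ (m (σ b) (σ c)) u
    rw [hm, hhom])
  have hkey : ∀ a b c, G (m (m a b) c) = ρ (μ a (σ b)) (σ (σ c)) := fun a b c => by
    rw [hG, hm, hassoc, ← hσ, ← hassoc, hm]
  have hma : ∀ a b c, m (m a b) c = m a (m b c) := fun a b c => hGi (by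
    rw [hkey, hG, hm, hassoc _ _ u, ← hhom, ← hassoc])
  have hul : ∀ b, m u b = b := fun b => hR (by
    show μ (m u b) u = μ b u
    rw [hm, hσ])
  have hur : ∀ b, m b u = b := fun b => hR (by
    show μ (m b u) u = μ b u
    rw [hm, hσu])
  have h3 : finrank k V ≤ 3 := by rcases hn with h | ⟨h, -⟩ <;> omega
  have hu0 : u ≠ 0 := by
    rintro rfl
    haveI : Subsingleton V := ⟨fun a b => hL (by simp)⟩
    have : finrank k V = 0 := finrank_zero_of_subsingleton
    omega
  obtain ⟨χ, hχm, hχu⟩ := exists_char h3 m u hu0 hma hul hur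
  let Gs := (LinearEquiv.ofBijective G ⟨hGi, hGs⟩).symm
  -- a functional on the algebra evaluated on a word
  have hword : ∀ (φ : Module.Dual k V) a b c, (φ.comp Gs.toLinearMap) (ρ (μ a b) c) =
      φ (m (m a (σ.symm b)) (σ.symm (σ.symm c))) := fun φ a b c => by
    show φ (Gs _) = _
    congr 1
    refine hGi ?_
    rw [hkey, σ.apply_symm_apply, σ.apply_symm_apply, σ.apply_symm_apply]
    exact (LinearEquiv.ofBijective G ⟨hGi, hGs⟩).apply_symm_apply _
  let χ₁ : Module.Dual k V := χ.comp σ.toLinearMap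
  let χ₂ : Module.Dual k V := χ₁.comp σ.toLinearMap
  let χ₃ : Module.Dual k V := χ₂.comp σ.toLinearMap
  have hχ₁ : ∀ a, χ₁ a = χ (σ a) := fun a => rfl
  have hχ₂ : ∀ a, χ₂ a = χ₁ (σ a) := fun a => rfl
  have hχ₃ : ∀ a, χ₃ a = χ₂ (σ a) := fun a => rfl
  have hcancel : ∀ φ ψ : Module.Dual k V, φ.comp σ.toLinearMap = ψ.comp σ.toLinearMap → φ = ψ :=
    fun φ ψ h => LinearMap.ext fun a => by simpa using LinearMap.congr_fun h (σ.symm a)
  have hm₁ : ∀ a b, χ₁ (m a b) = χ₁ a * χ₁ b := fun a b => by rw [hχ₁, hσm, hχm]; rfl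
  have hm₂ : ∀ a b, χ₂ (m a b) = χ₂ a * χ₂ b := fun a b => by rw [hχ₂, hσm, hm₁]; rfl
  have hm₃ : ∀ a b, χ₃ (m a b) = χ₃ a * χ₃ b := fun a b => by rw [hχ₃, hσm, hm₂]; rfl
  have hu₁ : χ₁ u = 1 := by rw [hχ₁, hσu, hχu]
  have hu₂ : χ₂ u = 1 := by rw [hχ₂, hσu, hu₁]
  have hu₃ : χ₃ u = 1 := by rw [hχ₃, hσu, hu₂]
  have hdual : finrank k (Module.Dual k V) = finrank k V := Subspace.dual_finrank_eq
  by_cases h01 : χ₁ = χ
  · refine Or.inl ⟨χ.comp Gs.toLinearMap, fun h => ?_, fun a b c => ?_⟩
    · have := LinearMap.congr_fun h (G u)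
      rw [LinearMap.comp_apply, LinearEquiv.coe_coe, LinearMap.zero_apply,
        show Gs (G u) = u from (LinearEquiv.ofBijective G ⟨hGi, hGs⟩).symm_apply_apply u, hχu] at this
      exact one_ne_zero this
    · have hinv : ∀ x, χ (σ.symm x) = χ x := fun x => by
        conv_rhs => rw [← σ.apply_symm_apply x, ← hχ₁, h01]
      rw [hword, hword]
      simp only [hχm, hinv]
      ring
  by_cases h02 : χ₂ = χ
  · have hinv : ∀ x, χ (σ.symm x) = χ₁ x := fun x => by
      conv_rhs => rw [← σ.apply_symm_apply x, ← hχ₂, h02]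
    have hinv₁ : ∀ x, χ₁ (σ.symm x) = χ x := fun x => by rw [hχ₁, σ.apply_symm_apply]
    rcases hn with hn | ⟨hn, hskew⟩
    · refine Or.inr ⟨hn, ?_⟩
      let ι : V →ₗ[k] k × k := χ.prod χ₁
      have hind := chars_indep m u ![χ, χ₁]
        (fun i a b => by fin_cases i <;> simp [hχm, hm₁])
        (fun i => by fin_cases i <;> simp [hχu, hu₁])
        (fun i j h => by
          fin_cases i <;> fin_cases j <;> first | rfl | exact absurd h.symm h01 | exact absurd h h01)
        Finset.univ
      have hιs : Function.Surjective ι := by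
        rw [← LinearMap.range_eq_top, ← Submodule.dualAnnihilator_eq_bot_iff, eq_bot_iff]
        intro φ hφ
        rw [Submodule.mem_dualAnnihilator] at hφ
        have h0 := hind ![φ (1, 0), φ (0, 1)] (LinearMap.ext fun a => by
          have := hφ (ι a) ⟨a, rfl⟩
          rw [show ι a = χ a • ((1 : k), (0 : k)) + χ₁ a • ((0 : k), (1 : k)) from
              Prod.ext (by simp [ι]) (by simp [ι]),
            map_add, map_smul, map_smul, smul_eq_mul, smul_eq_mul] at this
          simp only [Fin.sum_univ_two, Matrix.cons_val_zero, Matrix.cons_val_one, LinearMap.add_apply,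
            LinearMap.smul_apply, smul_eq_mul, LinearMap.zero_apply]
          linear_combination this)
        have a0 := h0 0 (Finset.mem_univ _)
        have a1 := h0 1 (Finset.mem_univ _)
        rw [Submodule.mem_bot]
        refine LinearMap.ext fun z => ?_
        rw [show z = z.1 • ((1 : k), (0 : k)) + z.2 • ((0 : k), (1 : k)) from
            Prod.ext (by simp) (by simp), map_add, map_smul, map_smul]
        simp only [Matrix.cons_val_zero, Matrix.cons_val_one] at a0 a1
        simp [a0, a1]
      have hιi : Function.Injective ι :=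
        (LinearMap.injective_iff_surjective_of_finrank_eq_finrank (by simp [hn])).2 hιs
      obtain ⟨x, hx⟩ := hιs (1, 0)
      obtain ⟨y, hy⟩ := hιs (0, 1)
      have hx1 : χ x = 1 := congrArg Prod.fst hx
      have hx2 : χ₁ x = 0 := congrArg Prod.snd hx
      have hy1 : χ y = 0 := congrArg Prod.fst hy
      have hy2 : χ₁ y = 1 := congrArg Prod.snd hy
      refine ⟨x, y, eq_top_iff.2 fun a _ => Submodule.mem_span_pair.2 ⟨χ a, χ₁ a, hιi ?_⟩, ?_, ?_⟩
      · exact Prod.ext (by simp [ι, hx1, hy1]) (by simp [ι, hx2, hy2])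
      · rw [← σ.apply_symm_apply x, ← hm, σ.apply_symm_apply]
        rw [show m x (σ.symm x) = 0 from hιi (Prod.ext (by simp [ι, hχm, hinv, hx1, hx2]) (by simp [ι, hm₁, hinv₁, hx1, hx2]))]
        simp
      · rw [← σ.apply_symm_apply y, ← hm, σ.apply_symm_apply]
        rw [show m y (σ.symm y) = 0 from hιi (Prod.ext (by simp [ι, hχm, hinv, hy1, hy2]) (by simp [ι, hm₁, hinv₁, hy1, hy2]))]
        simp
    · exfalso
      let φ : Module.Dual k U := (χ + χ₁).comp Ru.symm.toLinearMap
      have hφ : ∀ a b, φ (μ a b) = χ a * χ₁ b + χ₁ a * χ b := fun a b => by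
        have e : Ru.symm (μ a b) = m a (σ.symm b) := by
          show _ = Ru.symm (μ a (σ (σ.symm b)))
          rw [σ.apply_symm_apply]
        show (χ + χ₁) (Ru.symm (μ a b)) = _
        rw [e, LinearMap.add_apply, hχm, hm₁, hinv, hinv₁]
      have hφ0 : φ = 0 := LinearMap.ext_on hskew (by
        rintro _ ⟨a, b, rfl⟩
        rw [map_sub, hφ, hφ, LinearMap.zero_apply]
        ring)
      have hsum : χ + χ₁ = 0 := LinearMap.ext fun a => by
        simpa [φ] using LinearMap.congr_fun hφ0 (Ru a)
      have h2 := LinearMap.congr_fun hsum u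
      rw [LinearMap.add_apply, hχu, hu₁, LinearMap.zero_apply] at h2
      refine h01 (LinearMap.ext fun a => ?_)
      have ha := LinearMap.congr_fun hsum a
      rw [LinearMap.add_apply, LinearMap.zero_apply] at ha
      linear_combination ha - χ a * h2
  -- three distinct characters
  have h12 : χ₂ ≠ χ₁ := fun h => h01 (hcancel _ _ h)
  have hind3 := chars_indep m u ![χ, χ₁, χ₂]
    (fun i a b => by fin_cases i <;> simp [hχm, hm₁, hm₂])
    (fun i => by fin_cases i <;> simp [hχu, hu₁, hu₂])
    (fun i j h => by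
      fin_cases i <;> fin_cases j <;>
        first
        | rfl
        | exact absurd h.symm h01 | exact absurd h h01
        | exact absurd h.symm h02 | exact absurd h h02
        | exact absurd h.symm h12 | exact absurd h h12)
    Finset.univ
  have h30 : χ₃ = χ := by
    by_contra hne
    have h31 : χ₃ ≠ χ₁ := fun h => h02 (hcancel _ _ h)
    have h32 : χ₃ ≠ χ₂ := fun h => h12 (hcancel _ _ h)
    have hind4 := chars_indep m u ![χ, χ₁, χ₂, χ₃]
      (fun i a b => by fin_cases i <;> simp [hχm, hm₁, hm₂, hm₃])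
      (fun i => by fin_cases i <;> simp [hχu, hu₁, hu₂, hu₃])
      (fun i j h => by
        fin_cases i <;> fin_cases j <;>
          first
          | rfl
          | exact absurd h.symm h01 | exact absurd h h01
          | exact absurd h.symm h02 | exact absurd h h02
          | exact absurd h.symm h12 | exact absurd h h12
          | exact absurd h.symm hne | exact absurd h hne
          | exact absurd h.symm h31 | exact absurd h h31
          | exact absurd h.symm h32 | exact absurd h h32)
      Finset.univ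
    have hli : LinearIndependent k ![χ, χ₁, χ₂, χ₃] :=
      Fintype.linearIndependent_iff.2 fun c hc i => hind4 c hc i (Finset.mem_univ _)
    have := hli.fintype_card_le_finrank
    rw [hdual, Fintype.card_fin] at this
    omega
  let φ : Module.Dual k V := χ + χ₁ + χ₂
  have hφ0 : φ ≠ 0 := fun h => one_ne_zero (hind3 (fun _ => 1) (by
    simp [Fin.sum_univ_three, ← h, φ]) 0 (Finset.mem_univ _))
  refine Or.inl ⟨φ.comp Gs.toLinearMap, fun h => hφ0 (LinearMap.ext fun a => ?_), fun a b c => ?_⟩
  · have := LinearMap.congr_fun h (G a)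
    rwa [LinearMap.comp_apply, LinearEquiv.coe_coe,
      show Gs (G a) = a from (LinearEquiv.ofBijective G ⟨hGi, hGs⟩).symm_apply_apply a] at this
  · have i0 : ∀ x, χ (σ.symm x) = χ₂ x := fun x => by
      conv_rhs => rw [← σ.apply_symm_apply x, ← hχ₃, h30]
    have i1 : ∀ x, χ₁ (σ.symm x) = χ x := fun x => by rw [hχ₁, σ.apply_symm_apply]
    have i2 : ∀ x, χ₂ (σ.symm x) = χ₁ x := fun x => by rw [hχ₂, σ.apply_symm_apply]
    rw [hword, hword]
    simp only [φ, LinearMap.add_apply, hχm, hm₁, hm₂, i0, i1, i2]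
    ring

end Twist

end Cfsg.Lib.Blocks.RankOneFive
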