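import Mathlib
import Cfsg.Agent.Blocks.RankOneFive.Socle
import Cfsg.Agent.Blocks.RankOneFive.Twist
import Cfsg.Agent.Blocks.RankOneFive.Regular

/-!
# The three lowest layers as bilinear maps
-/

set_option autoImplicit false
set_option linter.unusedSectionVars false

namespace Cfsg.Lib.Blocks.RankOneFive

open Module Cfsg.Lib.Blocks.RankOneSmall
open scoped Pointwise

section Restrict

variable {k A B C : Type*} [Field k] [AddCommGroup A] [Module k A] [AddCommGroup B] [Module k B]
  [AddCommGroup C] [Module k C]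

/-- Restriction of a bilinear map to subspaces. -/
noncomputable def restrict₂ (β : A →ₗ[k] B →ₗ[k] C) (P : Submodule k A) (T : Submodule k C)
    (h : ∀ a ∈ P, ∀ b, β a b ∈ T) : P →ₗ[k] B →ₗ[k] T where
  toFun x := LinearMap.codRestrict T (β x) (h x x.2)
  map_add' x y := LinearMap.ext fun b => Subtype.ext (by simp)
  map_smul' c x := LinearMap.ext fun b => Subtype.ext (by simp)

theorem restrict₂_apply (β : A →ₗ[k] B →ₗ[k] C) (P : Submodule k A) (T : Submodule k C)
    (h : ∀ a ∈ P, ∀ b, β a b ∈ T) (x : P) (b : B) : (restrict₂ β P T h x b : C) = β x b := rfl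

end Restrict

variable {k R : Type*} [Field k] [Ring R] [Algebra k R] [FiniteDimensional k R]
  {N : Submodule k R} {n : ℕ} {g : Fin n → R}

/-- The second layer. -/
abbrev lay2 (N : Submodule k R) : Submodule k (R ⧸ N ^ 3) := (N ^ 2).map (N ^ 3).mkQ

/-- The third layer. -/
abbrev lay3 (N : Submodule k R) : Submodule k (R ⧸ N ^ 4) := (N ^ 3).map (N ^ 4).mkQ

theorem finrank_lay2 (N : Submodule k R) : finrank k (lay2 N) = layerDim N 2 := rfl

theorem finrank_lay3 (N : Submodule k R) : finrank k (lay3 N) = layerDim N 3 := rfl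

/-- The class in the second layer. -/
noncomputable def toLay2 (z : R) (hz : z ∈ N ^ 2) : lay2 N :=
  ⟨(N ^ 3).mkQ z, Submodule.mem_map_of_mem hz⟩

theorem exists_toLay2 (x : lay2 N) : ∃ z, ∃ hz : z ∈ N ^ 2, toLay2 z hz = x := by
  obtain ⟨z, hz, hzx⟩ := Submodule.mem_map.1 x.2
  exact ⟨z, hz, Subtype.ext hzx⟩

theorem toLay2_eq_zero {z : R} (hz : z ∈ N ^ 2) : toLay2 z hz = 0 ↔ z ∈ N ^ 3 := by
  rw [← Submodule.coe_eq_zero]
  exact Submodule.Quotient.mk_eq_zero _

/-- Products of generators in the second layer. -/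
noncomputable def prod2 (N : Submodule k R) (g : Fin n → R) (hg : ∀ i, g i ∈ N) :
    (Fin n → k) →ₗ[k] (Fin n → k) →ₗ[k] lay2 N :=
  (restrict₂ (((LinearMap.mul k R).compr₂ (N ^ 3).mkQ).compl₁₂ (comb g) (comb g)) ⊤ (lay2 N)
    (fun a _ b => Submodule.mem_map_of_mem (by
      rw [pow_two]; exact Submodule.mul_mem_mul (comb_mem hg a) (comb_mem hg b)))).comp
    (LinearMap.id.codRestrict ⊤ fun _ => trivial)

theorem prod2_apply (hg : ∀ i, g i ∈ N) (a b : Fin n → k) :
    prod2 N g hg a b = toLay2 (comb g a * comb g b)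
      (by rw [pow_two]; exact Submodule.mul_mem_mul (comb_mem hg a) (comb_mem hg b)) := rfl

/-- Multiplication of the second layer by generators on the right. -/
noncomputable def prodR (N : Submodule k R) (g : Fin n → R) (hg : ∀ i, g i ∈ N) :
    lay2 N →ₗ[k] (Fin n → k) →ₗ[k] lay3 N :=
  restrict₂ ((N ^ 3).liftQ (((LinearMap.mul k R).compr₂ (N ^ 4).mkQ).compl₂ (comb g)) fun z hz => by
      rw [LinearMap.mem_ker]
      refine LinearMap.ext fun c => (Submodule.Quotient.mk_eq_zero _).2 ?_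
      show z * comb g c ∈ N ^ 4
      rw [pow_succ]
      exact Submodule.mul_mem_mul hz (comb_mem hg c))
    (lay2 N) (lay3 N) (by
      rintro _ ⟨z, hz, rfl⟩ c
      exact Submodule.mem_map_of_mem (f := (N ^ 4).mkQ)
        (by rw [pow_succ]; exact Submodule.mul_mem_mul hz (comb_mem hg c) : z * comb g c ∈ N ^ 3))

theorem coe_prodR (hg : ∀ i, g i ∈ N) {z : R} (hz : z ∈ N ^ 2) (c : Fin n → k) :
    (prodR N g hg (toLay2 z hz) c : R ⧸ N ^ 4) = (N ^ 4).mkQ (z * comb g c) := rfl

/-- Multiplication of the second layer by generators on the left. -/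
noncomputable def prodL (N : Submodule k R) (g : Fin n → R) (hg : ∀ i, g i ∈ N) :
    (Fin n → k) →ₗ[k] lay2 N →ₗ[k] lay3 N :=
  (restrict₂ ((N ^ 3).liftQ (((LinearMap.mul k R).flip.compr₂ (N ^ 4).mkQ).compl₂ (comb g)) fun z hz => by
      rw [LinearMap.mem_ker]
      refine LinearMap.ext fun c => (Submodule.Quotient.mk_eq_zero _).2 ?_
      show comb g c * z ∈ N ^ 4
      rw [pow_succ']
      exact Submodule.mul_mem_mul (comb_mem hg c) hz)
    (lay2 N) (lay3 N) (by
      rintro _ ⟨z, hz, rfl⟩ c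
      exact Submodule.mem_map_of_mem (f := (N ^ 4).mkQ)
        (by rw [pow_succ']; exact Submodule.mul_mem_mul (comb_mem hg c) hz : comb g c * z ∈ N ^ 3))).flip

theorem coe_prodL (hg : ∀ i, g i ∈ N) {z : R} (hz : z ∈ N ^ 2) (c : Fin n → k) :
    (prodL N g hg c (toLay2 z hz) : R ⧸ N ^ 4) = (N ^ 4).mkQ (comb g c * z) := rfl

theorem prod_assoc (hg : ∀ i, g i ∈ N) (a b c : Fin n → k) :
    prodR N g hg (prod2 N g hg a b) c = prodL N g hg a (prod2 N g hg b c) := Subtype.ext (by
  rw [prod2_apply, prod2_apply, coe_prodR, coe_prodL, mul_assoc])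

theorem span_prod2 (hG : IsGen N g) :
    Submodule.span k {x | ∃ a b, x = prod2 N g hG.mem a b} = ⊤ := by
  classical
  refine eq_top_iff.2 fun x _ => ?_
  obtain ⟨z, hz, rfl⟩ := exists_toLay2 x
  obtain ⟨s, hs, t, ht, rfl⟩ := Submodule.mem_sup.1 (hG.sq_le hz)
  obtain ⟨a, rfl⟩ := (Submodule.mem_span_range_iff_exists_fun k).1 hs
  rw [show toLay2 _ hz = ∑ q : Fin n × Fin n, a q • prod2 N g hG.mem (Pi.single q.1 1) (Pi.single q.2 1)
    from Subtype.ext ?_]
  · exact Submodule.sum_mem _ fun q _ => Submodule.smul_mem _ _ (Submodule.subset_span ⟨_, _, rfl⟩)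
  · show (N ^ 3).mkQ _ = _
    rw [map_add, show (N ^ 3).mkQ t = 0 from (Submodule.Quotient.mk_eq_zero _).2 ht, add_zero, map_sum,
      Submodule.coe_sum]
    refine Finset.sum_congr rfl fun q _ => ?_
    rw [map_smul, Submodule.coe_smul, prod2_apply]
    simp only [toLay2, comb_single]

theorem span_prod3 (hG : IsGen N g) :
    Submodule.span k {x | ∃ a b c, x = prodR N g hG.mem (prod2 N g hG.mem a b) c} = ⊤ := by
  classical
  refine eq_top_iff.2 fun x _ => ?_
  obtain ⟨z, hz, hzx⟩ := Submodule.mem_map.1 x.2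
  obtain ⟨s, hs, t, ht, rfl⟩ := Submodule.mem_sup.1 (hG.cube_le hz)
  obtain ⟨a, rfl⟩ := (Submodule.mem_span_range_iff_exists_fun k).1 hs
  rw [show x = ∑ q : (Fin n × Fin n) × Fin n, a q • prodR N g hG.mem
      (prod2 N g hG.mem (Pi.single q.1.1 1) (Pi.single q.1.2 1)) (Pi.single q.2 1) from Subtype.ext ?_]
  · exact Submodule.sum_mem _ fun q _ => Submodule.smul_mem _ _ (Submodule.subset_span ⟨_, _, _, rfl⟩)
  · rw [← hzx, map_add, show (N ^ 4).mkQ t = 0 from (Submodule.Quotient.mk_eq_zero _).2 ht, add_zero,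
      map_sum, Submodule.coe_sum]
    refine Finset.sum_congr rfl fun q _ => ?_
    rw [map_smul, Submodule.coe_smul, prod2_apply, coe_prodR]
    simp only [comb_single]

theorem span_skew2 (hG : IsGen N g) (h : N ^ 2 ≤ genComm k g ⊔ N ^ 3) :
    Submodule.span k {x | ∃ a b, x = prod2 N g hG.mem a b - prod2 N g hG.mem b a} = ⊤ := by
  classical
  refine eq_top_iff.2 fun x _ => ?_
  obtain ⟨z, hz, rfl⟩ := exists_toLay2 x
  obtain ⟨s, hs, t, ht, rfl⟩ := Submodule.mem_sup.1 (h hz)
  obtain ⟨a, rfl⟩ := (Submodule.mem_span_range_iff_exists_fun k).1 hs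
  rw [show toLay2 _ hz = ∑ q : Fin n × Fin n, a q •
    (prod2 N g hG.mem (Pi.single q.1 1) (Pi.single q.2 1) -
      prod2 N g hG.mem (Pi.single q.2 1) (Pi.single q.1 1)) from Subtype.ext ?_]
  · exact Submodule.sum_mem _ fun q _ => Submodule.smul_mem _ _ (Submodule.subset_span ⟨_, _, rfl⟩)
  · show (N ^ 3).mkQ _ = _
    rw [map_add, show (N ^ 3).mkQ t = 0 from (Submodule.Quotient.mk_eq_zero _).2 ht, add_zero, map_sum,
      Submodule.coe_sum]
    refine Finset.sum_congr rfl fun q _ => ?_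
    rw [map_smul, Submodule.coe_smul, Submodule.coe_sub, prod2_apply, prod2_apply]
    simp only [toLay2, comb_single, map_sub]

namespace IsLocalTrace

variable {τ : R →ₗ[k] k} {L : ℕ}

/-- **No cyclic functional on the third layer.** -/
theorem cyclicFun_eq_zero (hC : IsLocalTrace N τ) (hL4 : 4 ≤ L) (hG : IsGen N g)
    (hdisj : ∀ x ∈ genComm k g, x ∈ N ^ 3 → x = 0) (hsup : N ^ 3 ≤ commOf N ⊔ N ^ L)
    (f : Module.Dual k (lay3 N)) (hf : IsCyclicFun (prod2 N g hG.mem) (prodR N g hG.mem) f) : f = 0 := by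
  classical
  set T : Submodule k R := ((LinearMap.ker f).map (lay3 N).subtype).comap (N ^ 4).mkQ with hT
  have hrot : ∀ c x, f (prodL N g hG.mem c x) = f (prodR N g hG.mem x c) := fun c x => by
    have hx : x ∈ Submodule.span k {x | ∃ a b, x = prod2 N g hG.mem a b} := by
      rw [span_prod2 hG]; trivial
    induction hx using Submodule.span_induction with
    | mem x hx =>
      obtain ⟨a, b, rfl⟩ := hx
      rw [← prod_assoc, hf c a b]
    | zero => simp
    | add x y _ _ hx hy => simp [map_add, hx, hy]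
    | smul a x _ hx => simp [map_smul, hx]
  have h4 : N ^ 4 ≤ T := fun z hz => by
    show (N ^ 4).mkQ z ∈ (LinearMap.ker f).map (lay3 N).subtype
    rw [show (N ^ 4).mkQ z = 0 from (Submodule.Quotient.mk_eq_zero _).2 hz]
    exact Submodule.zero_mem _
  have h1 : genComm₂ N g ≤ T := Submodule.span_le.2 <| by
    rintro _ ⟨i, a, ha, rfl⟩
    refine ⟨prodL N g hG.mem (Pi.single i 1) (toLay2 a ha) - prodR N g hG.mem (toLay2 a ha) (Pi.single i 1),
      ?_, ?_⟩
    · rw [SetLike.mem_coe, LinearMap.mem_ker, map_sub, hrot, sub_self]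
    · rw [Submodule.subtype_apply, Submodule.coe_sub, coe_prodL, coe_prodR, comb_single, ← map_sub]
  have hle : N ^ 3 ≤ T := fun z hz => by
    obtain ⟨c, hc, l, hl, rfl⟩ := Submodule.mem_sup.1 (hsup hz)
    have hl4 : l ∈ N ^ 4 := pow_le_pow_of_le N hC.sq (by omega) hL4 hl
    refine add_mem ?_ (h4 hl4)
    have hc3 : c ∈ N ^ 3 := by
      have := sub_mem hz (pow_succ_le_pow N hC.sq (by omega : 1 ≤ 3) hl4)
      rwa [add_sub_cancel_right] at this
    obtain ⟨u, hu, t, ht, rfl⟩ := Submodule.mem_sup.1 (hG.commOf_le hc)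
    obtain ⟨w, hw, s, hs, rfl⟩ := Submodule.mem_sup.1 hu
    have hw3 : w ∈ N ^ 3 := by
      have := sub_mem (sub_mem hc3 (pow_succ_le_pow N hC.sq (by omega : 1 ≤ 3) ht))
        (genComm₂_le hG.mem hs)
      rwa [add_sub_cancel_right, add_sub_cancel_right] at this
    rw [hdisj w hw hw3, zero_add]
    exact add_mem (h1 hs) (h4 ht)
  refine LinearMap.ext fun x => ?_
  obtain ⟨z, hz, hzx⟩ := Submodule.mem_map.1 x.2
  obtain ⟨y, hy, hyz⟩ := hle hz
  rw [LinearMap.zero_apply, show x = y from Subtype.ext (hzx.symm.trans hyz.symm)]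
  exact hy

/-- Left annihilators in the first layer. -/
theorem prod2_left_ker (hC : IsLocalTrace N τ) (hL : IsTopDegree N L) (hL4 : 4 ≤ L) (hG : IsGen N g)
    (hind : ∀ a : Fin n → k, comb g a ∈ N ^ 2 → a = 0)
    (hrad : ∀ x ∈ N, (∀ X ∈ N ^ (L - 1), x * X = 0) → x ∈ N ^ 2)
    (p : Fin n → k) (hp : ∀ v, prod2 N g hG.mem p v = 0) : p = 0 := by
  classical
  refine hind p (hrad _ (comb_mem hG.mem p) fun X hX => ?_)
  rw [show L - 1 = (L - 2) + 1 by omega, pow_succ'] at hX
  refine Submodule.mul_induction_on hX (fun a ha Y hY => ?_) fun a b ha hb => by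
    rw [mul_add, ha, hb, add_zero]
  obtain ⟨c, hc⟩ := hG.exists_comb ha
  have h3 : comb g p * a ∈ N ^ 3 := by
    have e : comb g p * comb g c ∈ N ^ 3 := by
      have := hp c
      rwa [prod2_apply, toLay2_eq_zero] at this
    rw [show comb g p * a = comb g p * comb g c + comb g p * (a - comb g c) by
      rw [mul_sub, add_sub_cancel]]
    refine add_mem e ?_
    rw [pow_succ']
    exact Submodule.mul_mem_mul (comb_mem hG.mem p) hc
  rw [← mul_assoc]
  exact hC.mul_eq_zero_of_lt hL (by omega) h3 hY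

/-- Right annihilators in the first layer. -/
theorem prod2_right_ker (hC : IsLocalTrace N τ) (hL : IsTopDegree N L) (hL4 : 4 ≤ L) (hG : IsGen N g)
    (hind : ∀ a : Fin n → k, comb g a ∈ N ^ 2 → a = 0)
    (hrad : ∀ x ∈ N, (∀ X ∈ N ^ (L - 1), x * X = 0) → x ∈ N ^ 2)
    (p : Fin n → k) (hp : ∀ v, prod2 N g hG.mem v p = 0) : p = 0 := by
  classical
  refine hind p (hrad _ (comb_mem hG.mem p) fun X hX => ?_)
  refine hC.top_eq_zero hL (by omega) ?_ ?_
  · rw [show L = 1 + (L - 1) by omega]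
    exact mul_mem_pow N (by rw [pow_one]; exact comb_mem hG.mem p) hX
  rw [hC.cyc (comb_mem hG.mem p) (hC.mem_self (by omega) hX)]
  rw [show L - 1 = (L - 2) + 1 by omega, pow_succ] at hX
  refine Submodule.mul_induction_on hX (fun Y hY a ha => ?_) fun a b ha hb => by
    rw [add_mul, map_add, ha, hb, add_zero]
  obtain ⟨c, hc⟩ := hG.exists_comb ha
  have h3 : a * comb g p ∈ N ^ 3 := by
    have e : comb g c * comb g p ∈ N ^ 3 := by
      have := hp c
      rwa [prod2_apply, toLay2_eq_zero] at this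
    rw [show a * comb g p = comb g c * comb g p + (a - comb g c) * comb g p by
      rw [sub_mul, add_sub_cancel]]
    refine add_mem e ?_
    rw [pow_succ]
    exact Submodule.mul_mem_mul hc (comb_mem hG.mem p)
  rw [mul_assoc, hC.mul_eq_zero_of_lt hL (by omega) hY h3, map_zero]

/-- A surjective right multiplication gives an injective left one. -/
theorem left_inj_of_right_surj (hC : IsLocalTrace N τ) (hL : IsTopDegree N L) (hL4 : 4 ≤ L)
    (hG : IsGen N g) (hind : ∀ a : Fin n → k, comb g a ∈ N ^ 2 → a = 0)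
    (hrad : ∀ x ∈ N, (∀ X ∈ N ^ (L - 1), x * X = 0) → x ∈ N ^ 2)
    (u : Fin n → k) (hs : Function.Surjective ((prod2 N g hG.mem).flip u)) :
    Function.Injective (prod2 N g hG.mem u) := by
  classical
  refine (injective_iff_map_eq_zero _).2 fun v hv => hind v (hrad _ (comb_mem hG.mem v) fun X hX => ?_)
  have huv : comb g u * comb g v ∈ N ^ 3 := by rwa [prod2_apply, toLay2_eq_zero] at hv
  refine hC.top_eq_zero hL (by omega) ?_ ?_
  · rw [show L = 1 + (L - 1) by omega]
    exact mul_mem_pow N (by rw [pow_one]; exact comb_mem hG.mem v) hX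
  rw [hC.cyc (comb_mem hG.mem v) (hC.mem_self (by omega) hX)]
  rw [show L - 1 = (L - 3) + 2 by omega, pow_add] at hX
  refine Submodule.mul_induction_on hX (fun Y hY z hz => ?_) fun a b ha hb => by
    rw [add_mul, map_add, ha, hb, add_zero]
  obtain ⟨a, ha⟩ := hs (toLay2 z hz)
  have ha' : comb g a * comb g u - z ∈ N ^ 3 := by
    rw [LinearMap.flip_apply, prod2_apply] at ha
    have := congrArg Subtype.val ha
    rwa [toLay2, toLay2, ← sub_eq_zero, ← map_sub, Submodule.mkQ_apply, Submodule.Quotient.mk_eq_zero] at this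
  have h4 : z * comb g v ∈ N ^ 4 := by
    rw [show z * comb g v = comb g a * (comb g u * comb g v) - (comb g a * comb g u - z) * comb g v by
      rw [sub_mul, mul_assoc, sub_sub_cancel]]
    refine sub_mem ?_ ?_
    · rw [pow_succ']; exact Submodule.mul_mem_mul (comb_mem hG.mem a) huv
    · rw [pow_succ]; exact Submodule.mul_mem_mul ha' (comb_mem hG.mem v)
  rw [mul_assoc, hC.mul_eq_zero_of_lt hL (by omega) hY h4, map_zero]

/-- A surjective left multiplication gives an injective right one. -/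
theorem right_inj_of_left_surj (hC : IsLocalTrace N τ) (hL : IsTopDegree N L) (hL4 : 4 ≤ L)
    (hG : IsGen N g) (hind : ∀ a : Fin n → k, comb g a ∈ N ^ 2 → a = 0)
    (hrad : ∀ x ∈ N, (∀ X ∈ N ^ (L - 1), x * X = 0) → x ∈ N ^ 2)
    (u : Fin n → k) (hs : Function.Surjective (prod2 N g hG.mem u)) :
    Function.Injective ((prod2 N g hG.mem).flip u) := by
  classical
  refine (injective_iff_map_eq_zero _).2 fun v hv => hind v (hrad _ (comb_mem hG.mem v) fun X hX => ?_)
  have hvu : comb g v * comb g u ∈ N ^ 3 := by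
    rwa [LinearMap.flip_apply, prod2_apply, toLay2_eq_zero] at hv
  rw [show L - 1 = 2 + (L - 3) by omega, pow_add] at hX
  refine Submodule.mul_induction_on hX (fun z hz Y hY => ?_) fun a b ha hb => by
    rw [mul_add, ha, hb, add_zero]
  obtain ⟨a, ha⟩ := hs (toLay2 z hz)
  have ha' : comb g u * comb g a - z ∈ N ^ 3 := by
    rw [prod2_apply] at ha
    have := congrArg Subtype.val ha
    rwa [toLay2, toLay2, ← sub_eq_zero, ← map_sub, Submodule.mkQ_apply, Submodule.Quotient.mk_eq_zero] at this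
  have h4 : comb g v * z ∈ N ^ 4 := by
    rw [show comb g v * z = comb g v * comb g u * comb g a - comb g v * (comb g u * comb g a - z) by
      rw [mul_sub, mul_assoc, sub_sub_cancel]]
    refine sub_mem ?_ ?_
    · rw [pow_succ]; exact Submodule.mul_mem_mul hvu (comb_mem hG.mem a)
    · rw [pow_succ']; exact Submodule.mul_mem_mul (comb_mem hG.mem v) ha'
  rw [← mul_assoc]
  exact hC.mul_eq_zero_of_lt hL (by omega) h4 hY

/-- A large part of the second layer invisible on the socle. -/
theorem false_of_hyperplane (hC : IsLocalTrace N τ) (hL : IsTopDegree N L) (hL4 : 4 ≤ L)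
    (hG : IsGen N g) (hsq : N ^ 2 ≤ genComm k g ⊔ N ^ 3) (H : Submodule k (lay2 N))
    (hH : finrank k (lay2 N) ≤ finrank k H + 1)
    (hkill : ∀ z, ∀ hz : z ∈ N ^ 2, toLay2 z hz ∈ H → ∀ X ∈ N ^ (L - 2), τ (z * X) = 0) : False := by
  classical
  by_cases htop : H = ⊤
  · refine hL.ne ((Submodule.eq_bot_iff _).2 fun z hz => hC.top_eq_zero hL (by omega) hz ?_)
    rw [show L = 2 + (L - 2) by omega, pow_add] at hz
    exact Submodule.mul_induction_on hz (fun s hs X hX => hkill s hs (by rw [htop]; trivial) X hX)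
      fun a b ha hb => by rw [map_add, ha, hb, add_zero]
  obtain ⟨p, q, hpq⟩ : ∃ p q : Fin n, prod2 N g hG.mem (Pi.single p 1) (Pi.single q 1) -
      prod2 N g hG.mem (Pi.single q 1) (Pi.single p 1) ∉ H := by
    by_contra h
    push Not at h
    refine htop (eq_top_iff.2 fun x _ => ?_)
    obtain ⟨z, hz, rfl⟩ := exists_toLay2 x
    obtain ⟨s, hs, t, ht, rfl⟩ := Submodule.mem_sup.1 (hsq hz)
    obtain ⟨a, rfl⟩ := (Submodule.mem_span_range_iff_exists_fun k).1 hs
    rw [show toLay2 _ hz = ∑ q : Fin n × Fin n, a q •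
      (prod2 N g hG.mem (Pi.single q.1 1) (Pi.single q.2 1) -
        prod2 N g hG.mem (Pi.single q.2 1) (Pi.single q.1 1)) from Subtype.ext ?_]
    · exact Submodule.sum_mem _ fun q _ => Submodule.smul_mem _ _ (h _ _)
    · show (N ^ 3).mkQ _ = _
      rw [map_add, show (N ^ 3).mkQ t = 0 from (Submodule.Quotient.mk_eq_zero _).2 ht, add_zero, map_sum,
        Submodule.coe_sum]
      refine Finset.sum_congr rfl fun q _ => ?_
      rw [map_smul, Submodule.coe_smul, Submodule.coe_sub, prod2_apply, prod2_apply]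
      simp only [toLay2, comb_single, map_sub]
  set w := g p * g q - g q * g p with hw
  have hw2 : w ∈ N ^ 2 := by
    rw [pow_two]
    exact sub_mem (Submodule.mul_mem_mul (hG.mem p) (hG.mem q)) (Submodule.mul_mem_mul (hG.mem q) (hG.mem p))
  have hwne : toLay2 w hw2 ∉ H := fun h => hpq (by
    convert h using 1
    refine Subtype.ext ?_
    rw [Submodule.coe_sub, prod2_apply, prod2_apply]
    simp only [toLay2, comb_single, hw, map_sub])
  have hfull : H ⊔ Submodule.span k {toLay2 w hw2} = ⊤ := by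
    refine Submodule.eq_top_of_finrank_eq (le_antisymm (Submodule.finrank_le _) ?_)
    have := Submodule.finrank_lt_finrank_of_lt (lt_of_le_of_ne
      (le_sup_left : H ≤ H ⊔ Submodule.span k {toLay2 w hw2}) fun h => hwne (h ▸ Submodule.mem_sup_right
        (Submodule.mem_span_singleton_self _)))
    omega
  refine hC.false_of_detect hL hG hL4 p q fun X hX hwX i j => ?_
  have hij : g i * g j ∈ N ^ 2 := by rw [pow_two]; exact Submodule.mul_mem_mul (hG.mem i) (hG.mem j)
  obtain ⟨h, hh, y, hy, hsum⟩ := Submodule.mem_sup.1 (hfull ▸ Submodule.mem_top :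
    toLay2 (g i * g j) hij ∈ H ⊔ Submodule.span k {toLay2 w hw2})
  obtain ⟨c, rfl⟩ := Submodule.mem_span_singleton.1 hy
  have hm : g i * g j - c • w ∈ N ^ 2 := sub_mem hij (Submodule.smul_mem _ _ hw2)
  have h2 := hkill _ hm (by
    convert hh using 1
    refine Subtype.ext ?_
    have e := congrArg Subtype.val hsum
    rw [Submodule.coe_add, Submodule.coe_smul] at e
    show (N ^ 3).mkQ _ = _
    rw [map_sub, map_smul]
    exact (eq_sub_of_add_eq e).symm) X hX
  rw [sub_mul, map_sub, smul_mul_assoc, map_smul, hwX, smul_zero, sub_zero] at h2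
  exact h2

end IsLocalTrace

end Cfsg.Lib.Blocks.RankOneFive
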