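import Mathlib
import Cfsg.Agent.Blocks.RankOneFive.Graded

/-!
# Three generators: the radical has length at most three
-/

set_option autoImplicit false
set_option linter.unusedSectionVars false

namespace Cfsg.Lib.Blocks.RankOneFive

open Module Cfsg.Lib.Blocks.RankOneSmall
open scoped Pointwise

variable {k R : Type*} [Field k] [Ring R] [Algebra k R] [FiniteDimensional k R]
  {N : Submodule k R} {τ : R →ₗ[k] k} {L : ℕ}

theorem exists_three_span (g : Fin 3 → R) :
    ∃ S : Finset R, S.card ≤ 3 ∧ genComm k g ≤ Submodule.span k (S : Set R) := by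
  classical
  set S : Finset R := {g 0 * g 1 - g 1 * g 0, g 0 * g 2 - g 2 * g 0, g 1 * g 2 - g 2 * g 1} with hS
  refine ⟨S, hS ▸ Finset.card_le_three, ?_⟩
  rw [genComm, Submodule.span_le]
  rintro _ ⟨⟨i, j⟩, rfl⟩
  have m₁ : g 0 * g 1 - g 1 * g 0 ∈ Submodule.span k (S : Set R) := Submodule.subset_span (by simp [hS])
  have m₂ : g 0 * g 2 - g 2 * g 0 ∈ Submodule.span k (S : Set R) := Submodule.subset_span (by simp [hS])
  have m₃ : g 1 * g 2 - g 2 * g 1 ∈ Submodule.span k (S : Set R) := Submodule.subset_span (by simp [hS])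
  have n₁ : g 1 * g 0 - g 0 * g 1 ∈ Submodule.span k (S : Set R) := by rw [← neg_sub]; exact neg_mem m₁
  have n₂ : g 2 * g 0 - g 0 * g 2 ∈ Submodule.span k (S : Set R) := by rw [← neg_sub]; exact neg_mem m₂
  have n₃ : g 2 * g 1 - g 1 * g 2 ∈ Submodule.span k (S : Set R) := by rw [← neg_sub]; exact neg_mem m₃
  fin_cases i <;> fin_cases j <;> first | assumption | (simp only [sub_self]; exact Submodule.zero_mem _)

namespace IsLocalTrace

theorem sq_le_genComm {n : ℕ} (hC : IsLocalTrace N τ) (hL : IsTopDegree N L) (hL3 : 3 ≤ L)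
    (hsize : finrank k (N ^ 2 : Submodule k R) ≤ finrank k (commOf N) + 1)
    {g : Fin n → R} (hG : IsGen N g) :
    N ^ 2 ≤ genComm k g ⊔ N ^ 3 ∧ N ^ 2 ≤ commOf N ⊔ N ^ L := by
  have h2 : commOf N ⊔ N ^ L ≤ N ^ 2 :=
    sup_le (by rw [pow_two]; exact RankOneSmall.commOf_le N) (pow_le_pow_of_le N hC.sq (by omega) (by omega))
  have heq : commOf N ⊔ N ^ L = N ^ 2 :=
    Submodule.eq_of_le_of_finrank_le h2 (hsize.trans (hC.finrank_sup_top hL (by omega)))
  refine ⟨?_, heq.ge⟩
  rw [← heq]
  exact sup_le (hG.commOf_le_cube hC.sq)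
    ((pow_le_pow_of_le N hC.sq (by omega) hL3).trans le_sup_right)

theorem layerDim_two_le_three (hC : IsLocalTrace N τ) (hL : IsTopDegree N L) (hL3 : 3 ≤ L)
    (hsize : finrank k (N ^ 2 : Submodule k R) ≤ finrank k (commOf N) + 1) (h3 : layerDim N 1 = 3) :
    layerDim N 2 ≤ 3 := by
  obtain ⟨g, hG, -⟩ := exists_gen N hC.sq h3
  obtain ⟨S, hS, hle⟩ := exists_three_span (k := k) g
  exact (layerDim_le N ((hC.sq_le_genComm hL hL3 hsize hG).1.trans (sup_le_sup_right hle _))).trans hS

/-- **No three-generated radical of length four or more.** -/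
theorem false_three [IsAlgClosed k] (hC : IsLocalTrace N τ) (hL : IsTopDegree N L) (hL4 : 4 ≤ L)
    (hsize : finrank k (N ^ 2 : Submodule k R) ≤ finrank k (commOf N) + 1) (h3 : layerDim N 1 = 3) :
    False := by
  classical
  obtain ⟨g, hG, hind⟩ := exists_gen N hC.sq h3
  have hrad : ∀ x ∈ N, (∀ X ∈ N ^ (L - 1), x * X = 0) → x ∈ N ^ 2 := by
    intro x hx hxX
    by_contra hx2
    obtain ⟨g', i₀, hG', hgi⟩ := hG.exists_through hx hx2
    obtain ⟨p, q, hpq⟩ : ∃ p q : Fin 3, ∀ i, i = i₀ ∨ i = p ∨ i = q :=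
      (by decide : ∀ a : Fin 3, ∃ p q : Fin 3, ∀ i, i = a ∨ i = p ∨ i = q) i₀
    refine hC.false_of_detect hL hG' hL4 p q fun X hX hw => ?_
    have hl : ∀ j, τ (g' i₀ * g' j * X) = 0 := fun j => by
      rw [hgi, mul_assoc, hxX _ (by
        rw [show L - 1 = 1 + (L - 2) by omega]
        exact mul_mem_pow N (by rw [pow_one]; exact hG'.mem j) hX), map_zero]
    have hr : ∀ i, τ (g' i * g' i₀ * X) = 0 := fun i => by
      rw [mul_assoc, hC.cyc (hG'.mem i) (hC.mem_self (m := 1 + (L - 2)) (by omega)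
        (mul_mem_pow N (by rw [pow_one]; exact hG'.mem i₀) hX)), hgi, mul_assoc, hxX _ (by
        rw [show L - 1 = (L - 2) + 1 by omega]
        exact mul_mem_pow N hX (by rw [pow_one]; exact hG'.mem i)), map_zero]
    have hw' : ∀ i j, τ ((g' i * g' j - g' j * g' i) * X) = 0 := fun i j => by
      rcases hpq i with rfl | rfl | rfl <;> rcases hpq j with rfl | rfl | rfl <;>
        first
        | simp only [sub_self, zero_mul, map_zero]
        | exact hw
        | rw [← neg_sub, neg_mul, map_neg, hw, neg_zero]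
        | rw [sub_mul, map_sub, hl, hr, sub_zero]
        | rw [sub_mul, map_sub, hr, hl, sub_zero]
    intro i j
    have hij : g' i * g' j ∈ N ^ 2 := by
      rw [pow_two]; exact Submodule.mul_mem_mul (hG'.mem i) (hG'.mem j)
    obtain ⟨s, hs, t, ht, hst⟩ := Submodule.mem_sup.1 ((hC.sq_le_genComm hL (by omega) hsize hG').1 hij)
    obtain ⟨a, rfl⟩ := (Submodule.mem_span_range_iff_exists_fun k).1 hs
    rw [← hst, add_mul, hC.mul_eq_zero_of_lt hL (by omega) ht hX, add_zero, Finset.sum_mul, map_sum]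
    exact Finset.sum_eq_zero fun q _ => by rw [smul_mul_assoc, map_smul, hw', smul_zero]
  have hd := hC.layerDim_one_le hL (by omega) hrad
  have hd2 : layerDim N 2 = 3 := le_antisymm (hC.layerDim_two_le_three hL (by omega) hsize h3) (by
    by_contra h
    have := hC.layerDim_le_of_le le_rfl le_rfl (show layerDim N 2 ≤ 2 by omega) (L - 1) (by omega)
    omega)
  have hd3 : 3 ≤ layerDim N 3 := by
    by_contra h
    have := hC.layerDim_le_of_le le_rfl (show 2 ≤ 3 by omega) (show layerDim N 3 ≤ 2 by omega) (L - 1)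
      (by omega)
    omega
  obtain ⟨hsq, hsup⟩ := hC.sq_le_genComm hL (by omega) hsize hG
  have hdisj : ∀ x ∈ genComm k g, x ∈ N ^ 3 → x = 0 := by
    obtain ⟨S, hS, hle⟩ := exists_three_span (k := k) g
    have h1 := LinearMap.finrank_range_add_finrank_ker ((N ^ 3).mkQ.domRestrict (genComm k g))
    have h2 : finrank k (lay2 N) ≤ finrank k (LinearMap.range ((N ^ 3).mkQ.domRestrict (genComm k g))) := by
      refine Submodule.finrank_mono ?_
      rw [LinearMap.range_domRestrict]
      refine (Submodule.map_mono hsq).trans ?_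
      rw [Submodule.map_sup, Submodule.mkQ_map_self, sup_bot_eq]
    have h4 := (Submodule.finrank_mono hle).trans ((finrank_span_finset_le_card S).trans hS)
    rw [finrank_lay2, hd2] at h2
    intro x hx hx3
    have h5 : LinearMap.ker ((N ^ 3).mkQ.domRestrict (genComm k g)) = ⊥ :=
      Submodule.finrank_eq_zero.1 (by omega)
    have h6 : (⟨x, hx⟩ : genComm k g) ∈ LinearMap.ker ((N ^ 3).mkQ.domRestrict (genComm k g)) :=
      (Submodule.Quotient.mk_eq_zero _).2 hx3
    rw [h5, Submodule.mem_bot] at h6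
    exact congrArg Subtype.val h6
  have hn : finrank k (Fin 3 → k) = 3 := by simp
  have hU : finrank k (lay2 N) = 3 := hd2
  have hskew := span_skew2 hG hsq
  have hann : finrank k (LinearMap.ker (prodR N g hG.mem)) ≤ 1 := by
    by_contra h
    refine hC.false_of_hyperplane hL hL4 hG hsq (LinearMap.ker (prodR N g hG.mem))
      (by rw [hU]; omega) fun z hz hzH X hX => ?_
    have hzN : ∀ a ∈ N, z * a ∈ N ^ 4 := fun a ha => by
      obtain ⟨c, hc⟩ := hG.exists_comb ha
      have h0 := congrArg Subtype.val (LinearMap.congr_fun (LinearMap.mem_ker.1 hzH) c)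
      rw [coe_prodR] at h0
      have h1 : z * comb g c ∈ N ^ 4 := (Submodule.Quotient.mk_eq_zero _).1 h0
      rw [show z * a = z * comb g c + z * (a - comb g c) by rw [mul_sub, add_sub_cancel]]
      exact add_mem h1 (mul_mem_pow N hz hc)
    rw [show L - 2 = (L - 3) + 1 by omega, pow_succ'] at hX
    refine Submodule.mul_induction_on hX (fun a ha Y hY => ?_) fun a b ha hb => by
      rw [mul_add, map_add, ha, hb, add_zero]
    rw [← mul_assoc, hC.mul_eq_zero_of_lt hL (by omega) (hzN a ha) hY, map_zero]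
  have hann' : finrank k (LinearMap.ker (prodL N g hG.mem).flip) ≤ 1 := by
    by_contra h
    refine hC.false_of_hyperplane hL hL4 hG hsq (LinearMap.ker (prodL N g hG.mem).flip)
      (by rw [hU]; omega) fun z hz hzH X hX => ?_
    have hzN : ∀ a ∈ N, a * z ∈ N ^ 4 := fun a ha => by
      obtain ⟨c, hc⟩ := hG.exists_comb ha
      have h0 := congrArg Subtype.val (LinearMap.congr_fun (LinearMap.mem_ker.1 hzH) c)
      rw [LinearMap.flip_apply, coe_prodL] at h0
      have h1 : comb g c * z ∈ N ^ 4 := (Submodule.Quotient.mk_eq_zero _).1 h0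
      rw [show a * z = comb g c * z + (a - comb g c) * z by rw [sub_mul, add_sub_cancel]]
      exact add_mem h1 (mul_mem_pow N hc hz)
    rw [hC.cyc (hC.mem_self (by omega) hz) (hC.mem_self (by omega) hX)]
    rw [show L - 2 = (L - 3) + 1 by omega, pow_succ] at hX
    refine Submodule.mul_induction_on hX (fun Y hY a ha => ?_) fun a b ha hb => by
      rw [add_mul, map_add, ha, hb, add_zero]
    rw [mul_assoc, hC.mul_eq_zero_of_lt hL (by omega) hY (hzN a ha), map_zero]
  have hLR := fun u (hu : Function.Injective ((prod2 N g hG.mem).flip u)) =>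
    hC.left_inj_of_right_surj hL hL4 hG hind hrad u
      ((LinearMap.injective_iff_surjective_of_finrank_eq_finrank (hn.trans hU.symm)).1 hu)
  have hRL := fun u (hu : Function.Injective (prod2 N g hG.mem u)) =>
    hC.right_inj_of_left_surj hL hL4 hG hind hrad u
      ((LinearMap.injective_iff_surjective_of_finrank_eq_finrank (hn.trans hU.symm)).1 hu)
  obtain ⟨u, hu⟩ := exists_regular_three (prod2 N g hG.mem) (prodR N g hG.mem) (prodL N g hG.mem) hn hU
    (by rw [finrank_lay3]; omega) (prod_assoc hG.mem) (span_prod3 hG) hskew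
    (fun p hp => hC.prod2_left_ker hL hL4 hG hind hrad p hp)
    (fun p hp => hC.prod2_right_ker hL hL4 hG hind hrad p hp) hann hann'
  obtain ⟨hu₁, hu₂⟩ : Function.Injective ((prod2 N g hG.mem).flip u) ∧
      Function.Injective (prod2 N g hG.mem u) :=
    hu.elim (fun h => ⟨h, hLR u h⟩) fun h => ⟨hRL u h, h⟩
  rcases exists_cyclic_of_regular (prod2 N g hG.mem) (prodR N g hG.mem) (prodL N g hG.mem)
    (prod_assoc hG.mem) (span_prod3 hG) (hU.trans hn.symm) (by rw [hn, finrank_lay3]; exact hd3)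
    (Or.inr ⟨hn, hskew⟩) hu₁ hu₂ with ⟨f, hf0, hf⟩ | ⟨h2, -⟩
  · exact hf0 (hC.cyclicFun_eq_zero hL4 hG hdisj
      ((pow_succ_le_pow N hC.sq (by omega)).trans hsup) f hf)
  · rw [hn] at h2; omega

end IsLocalTrace

end Cfsg.Lib.Blocks.RankOneFive
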