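import Mathlib
import Cfsg.Agent.Blocks.RankOneFive.Socle

/-!
# Two generators with vanishing squares

If the squares of both generators vanish in the second layer, the radical is short.
-/

set_option autoImplicit false
set_option linter.unusedSectionVars false

namespace Cfsg.Lib.Blocks.RankOneFive

open Module Cfsg.Lib.Blocks.RankOneSmall
open scoped Pointwise

variable {k R : Type*} [Field k] [Ring R] [Algebra k R] [FiniteDimensional k R]
  {N : Submodule k R} {τ : R →ₗ[k] k} {L : ℕ}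

theorem mul_pow_swap (x y : R) (j : ℕ) : x * (y * x) ^ j = (x * y) ^ j * x := by
  induction j with
  | zero => simp
  | succ j ih => rw [pow_succ, pow_succ, ← mul_assoc x, ih]; simp only [mul_assoc]

theorem alt_mem {x y : R} (hx : x ∈ N) (hy : y ∈ N) (i : ℕ) : (x * y) ^ i ∈ N ^ (2 * i) := by
  rw [pow_mul]
  exact Submodule.pow_mem_pow _ (by rw [pow_two]; exact Submodule.mul_mem_mul hx hy) i

theorem mul_alt_mem {x y : R} (hx : x ∈ N) (hy : y ∈ N) (i : ℕ) :
    (x * y) ^ i * x ∈ N ^ (2 * i + 1) := by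
  rw [pow_succ]; exact Submodule.mul_mem_mul (alt_mem hx hy i) hx

namespace IsLocalTrace

/-- The even and the odd layers are spanned by alternating words. -/
theorem alt_span (hC : IsLocalTrace N τ) {X Y : R} (hG : IsGen N ![X, Y]) (hX2 : X * X ∈ N ^ 3)
    (hY2 : Y * Y ∈ N ^ 3) (i : ℕ) :
    N ^ (2 * (i + 1)) ≤ Submodule.span k {(X * Y) ^ (i + 1), (Y * X) ^ (i + 1)} ⊔ N ^ (2 * (i + 1) + 1) ∧
    N ^ (2 * (i + 1) + 1) ≤ Submodule.span k {(X * Y) ^ (i + 1) * X, (Y * X) ^ (i + 1) * Y} ⊔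
      N ^ (2 * (i + 1) + 2) := by
  have hX : X ∈ N := hG.mem 0
  have hY : Y ∈ N := hG.mem 1
  have hodd : ∀ j, N ^ (2 * (j + 1)) ≤
      Submodule.span k {(X * Y) ^ (j + 1), (Y * X) ^ (j + 1)} ⊔ N ^ (2 * (j + 1) + 1) →
      N ^ (2 * (j + 1) + 1) ≤ Submodule.span k {(X * Y) ^ (j + 1) * X, (Y * X) ^ (j + 1) * Y} ⊔
        N ^ (2 * (j + 1) + 2) := fun j h => by
    refine (hG.pow_succ_le (m := 2 * (j + 1)) (Submodule.span k {(X * Y) ^ (j + 1) * X,
      (Y * X) ^ (j + 1) * Y} ⊔ N ^ (2 * (j + 1) + 2)) fun z hz l => ?_).trans (sup_le le_rfl le_sup_right)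
    obtain ⟨s, hs, t, ht, rfl⟩ := Submodule.mem_sup.1 (h hz)
    obtain ⟨a, b, rfl⟩ := Submodule.mem_span_pair.1 hs
    rw [add_mul, add_mul, smul_mul_assoc, smul_mul_assoc]
    refine add_mem (add_mem (Submodule.smul_mem _ _ ?_) (Submodule.smul_mem _ _ ?_))
      (Submodule.mem_sup_right (by rw [pow_succ]; exact Submodule.mul_mem_mul ht (hG.mem l)))
    · fin_cases l
      · exact Submodule.mem_sup_left (Submodule.subset_span (by simp))
      · refine Submodule.mem_sup_right ?_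
        show (X * Y) ^ (j + 1) * Y ∈ _
        rw [pow_succ (X * Y) j, mul_assoc, mul_assoc X, show 2 * (j + 1) + 2 = 2 * j + (1 + 3) by omega]
        exact mul_mem_pow N (alt_mem hX hY j) (mul_mem_pow N (by rwa [pow_one]) hY2)
    · fin_cases l
      · refine Submodule.mem_sup_right ?_
        show (Y * X) ^ (j + 1) * X ∈ _
        rw [pow_succ (Y * X) j, mul_assoc, mul_assoc Y, show 2 * (j + 1) + 2 = 2 * j + (1 + 3) by omega]
        exact mul_mem_pow N (alt_mem hY hX j) (mul_mem_pow N (by rwa [pow_one]) hX2)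
      · exact Submodule.mem_sup_left (Submodule.subset_span (by simp))
  suffices h : N ^ (2 * (i + 1)) ≤
      Submodule.span k {(X * Y) ^ (i + 1), (Y * X) ^ (i + 1)} ⊔ N ^ (2 * (i + 1) + 1) from ⟨h, hodd i h⟩
  induction i with
  | zero =>
    refine hG.sq_le.trans (sup_le (Submodule.span_le.2 ?_) le_sup_right)
    rintro _ ⟨⟨l, m⟩, rfl⟩
    fin_cases l <;> fin_cases m
    · exact Submodule.mem_sup_right (show X * X ∈ N ^ 3 from hX2)
    · exact Submodule.mem_sup_left (Submodule.subset_span (by simp))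
    · exact Submodule.mem_sup_left (Submodule.subset_span (by simp))
    · exact Submodule.mem_sup_right (show Y * Y ∈ N ^ 3 from hY2)
  | succ j ih =>
    refine (hG.pow_succ_le (m := 2 * (j + 1) + 1) (Submodule.span k {(X * Y) ^ (j + 1 + 1),
      (Y * X) ^ (j + 1 + 1)} ⊔ N ^ (2 * (j + 1 + 1) + 1)) fun z hz l => ?_).trans
      (sup_le le_rfl le_sup_right)
    obtain ⟨s, hs, t, ht, rfl⟩ := Submodule.mem_sup.1 (hodd j ih hz)
    obtain ⟨a, b, rfl⟩ := Submodule.mem_span_pair.1 hs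
    rw [add_mul, add_mul, smul_mul_assoc, smul_mul_assoc]
    refine add_mem (add_mem (Submodule.smul_mem _ _ ?_) (Submodule.smul_mem _ _ ?_))
      (Submodule.mem_sup_right ?_)
    · fin_cases l
      · refine Submodule.mem_sup_right ?_
        show (X * Y) ^ (j + 1) * X * X ∈ _
        rw [mul_assoc, show 2 * (j + 1 + 1) + 1 = 2 * (j + 1) + 3 by omega]
        exact mul_mem_pow N (alt_mem hX hY _) hX2
      · exact Submodule.mem_sup_left (Submodule.subset_span (by simp [pow_succ _ (j + 1), mul_assoc]))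
    · fin_cases l
      · exact Submodule.mem_sup_left (Submodule.subset_span (by simp [pow_succ _ (j + 1), mul_assoc]))
      · refine Submodule.mem_sup_right ?_
        show (Y * X) ^ (j + 1) * Y * Y ∈ _
        rw [mul_assoc, show 2 * (j + 1 + 1) + 1 = 2 * (j + 1) + 3 by omega]
        exact mul_mem_pow N (alt_mem hY hX _) hY2
    · rw [show 2 * (j + 1 + 1) + 1 = (2 * (j + 1) + 2) + 1 by omega, pow_succ]
      exact Submodule.mul_mem_mul ht (hG.mem l)

/-- The trace of the top word does not vanish and the length is even. -/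
theorem alt_trace (hC : IsLocalTrace N τ) (hL : IsTopDegree N L) (hL5 : 5 ≤ L) {X Y : R}
    (hG : IsGen N ![X, Y]) (hX2 : X * X ∈ N ^ 3) (hY2 : Y * Y ∈ N ^ 3) :
    ∃ i, L = 2 * (i + 1) ∧ τ ((X * Y) ^ (i + 1)) ≠ 0 ∧ τ ((Y * X) ^ (i + 1)) = τ ((X * Y) ^ (i + 1)) := by
  have hX : X ∈ N := hG.mem 0
  have hY : Y ∈ N := hG.mem 1
  rcases Nat.even_or_odd' L with ⟨c, hc | hc⟩
  · obtain ⟨i, rfl⟩ : ∃ i, c = i + 1 := ⟨c - 1, by omega⟩
    have hsw : τ ((Y * X) ^ (i + 1)) = τ ((X * Y) ^ (i + 1)) := by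
      conv_lhs => rw [pow_succ, ← mul_assoc]
      conv_rhs => rw [pow_succ', mul_assoc, mul_pow_swap Y X i |>.trans rfl]
      exact (hC.cyc hX (hC.mem_self (m := 2 * i + 1) (by omega) (mul_alt_mem hY hX i))).symm
    refine ⟨i, hc, fun h0 => hL.ne ((Submodule.eq_bot_iff _).2 fun z hz =>
      hC.top_eq_zero hL (by omega) hz ?_), hsw⟩
    subst hc
    obtain ⟨s, hs, t, ht, rfl⟩ := Submodule.mem_sup.1 ((hC.alt_span hG hX2 hY2 i).1 hz)
    obtain ⟨a, b, rfl⟩ := Submodule.mem_span_pair.1 hs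
    rw [hC.eq_zero_of_lt hL (by omega) ht, add_zero, map_add, map_smul, map_smul, hsw, h0, smul_zero,
      smul_zero, add_zero]
  · exfalso
    obtain ⟨i, rfl⟩ : ∃ i, c = i + 1 := ⟨c - 1, by omega⟩
    have key : ∀ A B : R, A ∈ N → B ∈ N → A * A ∈ N ^ 3 → τ ((A * B) ^ (i + 1) * A) = 0 := by
      intro A B hA hB hA2
      rw [hC.cyc (hC.mem_self (m := 2 * (i + 1)) (by omega) (alt_mem hA hB _)) hA, pow_succ', ← mul_assoc,
        ← mul_assoc, mul_assoc (A * A),
        hC.mul_eq_zero_of_lt hL (show L < 3 + (1 + 2 * i) by omega) hA2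
          (mul_mem_pow N (by rwa [pow_one]) (alt_mem hA hB i)), map_zero]
    refine hL.ne ((Submodule.eq_bot_iff _).2 fun z hz => hC.top_eq_zero hL (by omega) hz ?_)
    subst hc
    obtain ⟨s, hs, t, ht, rfl⟩ := Submodule.mem_sup.1 ((hC.alt_span hG hX2 hY2 i).2 hz)
    obtain ⟨a, b, rfl⟩ := Submodule.mem_span_pair.1 hs
    rw [hC.eq_zero_of_lt hL (by omega) ht, add_zero, map_add, map_smul, map_smul, key X Y hX hY hX2,
      key Y X hY hX hY2, smul_zero, smul_zero, add_zero]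

/-- **Vanishing squares are impossible in length five or more.** -/
theorem false_of_alternating (hC : IsLocalTrace N τ) (hL : IsTopDegree N L) (hL5 : 5 ≤ L) {X Y : R}
    (hG : IsGen N ![X, Y]) (hX2 : X * X ∈ N ^ 3) (hY2 : Y * Y ∈ N ^ 3)
    (hdisj : ∀ x ∈ genComm k ![X, Y], x ∈ N ^ 3 → x = 0) (hd3 : 2 ≤ layerDim N 3)
    (hsup : N ^ 3 ≤ commOf N ⊔ N ^ L) : False := by
  classical
  have hX : X ∈ N := hG.mem 0
  have hY : Y ∈ N := hG.mem 1
  obtain ⟨i, hLi, ht0, hsw⟩ := hC.alt_trace hL hL5 hG hX2 hY2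
  obtain ⟨j, rfl⟩ : ∃ j, i = j + 1 + 1 := ⟨i - 2, by omega⟩
  set Z := (X * Y) ^ (j + 1) + (Y * X) ^ (j + 1) with hZdef
  have hZm : Z ∈ N ^ (2 * (j + 1)) := add_mem (alt_mem hX hY _) (alt_mem hY hX _)
  -- the element commutes with everything modulo higher terms
  have hZgen : ∀ A B : R, A ∈ N → B ∈ N → A * A ∈ N ^ 3 → Z = (A * B) ^ (j + 1) + (B * A) ^ (j + 1) →
      A * Z - Z * A ∈ N ^ (1 + 2 * (j + 1) + 1) := by
    intro A B hA hB hA2 hZ
    rw [hZ, mul_add A, add_mul _ _ A, mul_pow_swap, show A * (A * B) ^ (j + 1) + (A * B) ^ (j + 1) * A -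
      ((A * B) ^ (j + 1) * A + (B * A) ^ (j + 1) * A) =
      A * (A * B) ^ (j + 1) - (B * A) ^ (j + 1) * A by abel]
    refine sub_mem ?_ ?_
    · rw [pow_succ' (A * B) j, ← mul_assoc, ← mul_assoc, mul_assoc (A * A),
        show 1 + 2 * (j + 1) + 1 = 3 + (1 + 2 * j) by omega]
      exact mul_mem_pow N hA2 (mul_mem_pow N (by rwa [pow_one]) (alt_mem hA hB j))
    · rw [pow_succ (B * A) j, mul_assoc, mul_assoc B, show 1 + 2 * (j + 1) + 1 = 2 * j + (1 + 3) by omega]
      exact mul_mem_pow N (alt_mem hB hA j) (mul_mem_pow N (by rwa [pow_one]) hA2)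
  have hZX : X * Z - Z * X ∈ N ^ (1 + 2 * (j + 1) + 1) := hZgen X Y hX hY hX2 hZdef
  have hZY : Y * Z - Z * Y ∈ N ^ (1 + 2 * (j + 1) + 1) :=
    hZgen Y X hY hX hY2 (hZdef.trans (add_comm _ _))
  have hZ2 : ∀ a ∈ N ^ 2, a * Z - Z * a ∈ N ^ (1 + 2 * (j + 1) + 1 + 1) := by
    intro a ha
    rw [pow_two] at ha
    have hb : ∀ b ∈ N, b * Z - Z * b ∈ N ^ (2 * (j + 1) + 1) := fun b hb => by
      refine sub_mem ?_ ?_
      · rw [pow_succ']; exact Submodule.mul_mem_mul hb hZm
      · rw [pow_succ]; exact Submodule.mul_mem_mul hZm hb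
    have hgen : ∀ b ∈ N, b * Z - Z * b ∈ N ^ (1 + 2 * (j + 1) + 1) := fun b hb => by
      obtain ⟨c, hc⟩ := hG.exists_comb hb
      rw [show b * Z - Z * b = (comb ![X, Y] c * Z - Z * comb ![X, Y] c) +
        ((b - comb ![X, Y] c) * Z - Z * (b - comb ![X, Y] c)) by simp only [sub_mul, mul_sub]; abel]
      refine add_mem ?_ (sub_mem ?_ ?_)
      · rw [comb_apply, Fin.sum_univ_two]
        simp only [Matrix.cons_val_zero, Matrix.cons_val_one, add_mul, mul_add, smul_mul_assoc, mul_smul_comm]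
        rw [add_sub_add_comm, ← smul_sub, ← smul_sub]
        exact add_mem (Submodule.smul_mem _ _ hZX) (Submodule.smul_mem _ _ hZY)
      · rw [show 1 + 2 * (j + 1) + 1 = 2 + 2 * (j + 1) by omega]; exact mul_mem_pow N hc hZm
      · rw [show 1 + 2 * (j + 1) + 1 = 2 * (j + 1) + 2 by omega]; exact mul_mem_pow N hZm hc
    refine Submodule.mul_induction_on ha (fun u hu v hv => ?_) fun u v hu hv => by
      rw [add_mul, mul_add Z, add_sub_add_comm]; exact add_mem hu hv
    rw [show u * v * Z - Z * (u * v) = u * (v * Z - Z * v) + (u * Z - Z * u) * v by noncomm_ring]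
    refine add_mem ?_ ?_
    · rw [pow_succ']; exact Submodule.mul_mem_mul hu (hgen v hv)
    · rw [pow_succ]; exact Submodule.mul_mem_mul (hgen u hu) hv
  -- the functional on the fourth layer
  set F : R →ₗ[k] k := τ.comp (LinearMap.mulRight k Z) with hFdef
  have hF : ∀ z, F z = τ (z * Z) := fun z => rfl
  have hkill : ∀ u v : R, ∀ a b, 1 ≤ a → 1 ≤ b → u ∈ N ^ a → v ∈ N ^ b →
      ∀ e, L < a + e → v * Z - Z * v ∈ N ^ e → F (u * v - v * u) = 0 := by
    intro u v a b ha hb hu hv e he hvZ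
    rw [hF, sub_mul, map_sub, mul_assoc v, hC.cyc (hC.mem_self hb hv)
      (hC.mem_self (m := a + 2 * (j + 1)) (by omega) (mul_mem_pow N hu hZm)), mul_assoc, mul_assoc,
      ← map_sub, ← mul_sub, hC.mul_eq_zero_of_lt hL he hu hvZ, map_zero]
  set T : Submodule k R := LinearMap.ker F ⊓ N ^ 4
  set P := X * Y with hP
  set Q := Y * X with hQ
  set S : Submodule k R := Submodule.span k
    {X * P - P * X, X * Q - Q * X, Y * P - P * Y, Y * Q - Q * Y} with hSdef
  have hP2 : P ∈ N ^ 2 := by rw [pow_two]; exact Submodule.mul_mem_mul hX hY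
  have hQ2 : Q ∈ N ^ 2 := by rw [pow_two]; exact Submodule.mul_mem_mul hY hX
  have hT3 : ∀ (l : Fin 2) (t : R), t ∈ N ^ 3 → ![X, Y] l * t - t * ![X, Y] l ∈ T := by
    intro l t ht
    refine ⟨?_, sub_mem (by rw [pow_succ']; exact Submodule.mul_mem_mul (hG.mem l) ht)
      (by rw [pow_succ]; exact Submodule.mul_mem_mul ht (hG.mem l))⟩
    rw [SetLike.mem_coe, LinearMap.mem_ker, ← neg_sub, map_neg, neg_eq_zero]
    refine hkill t _ 3 1 (by omega) le_rfl ht (by rw [pow_one]; exact hG.mem l) (1 + 2 * (j + 1) + 1)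
      (by omega) ?_
    fin_cases l
    · exact hZX
    · exact hZY
  have h2 : ∀ a ∈ N ^ 2, ∀ l : Fin 2, ![X, Y] l * a - a * ![X, Y] l ∈ S ⊔ T := by
    intro a ha l
    obtain ⟨s, hs, t, ht, rfl⟩ := Submodule.mem_sup.1 ((hC.alt_span hG hX2 hY2 0).1 ha)
    obtain ⟨α, β, rfl⟩ := Submodule.mem_span_pair.1 hs
    simp only [zero_add, pow_one]
    rw [show ![X, Y] l * (α • P + β • Q + t) - (α • P + β • Q + t) * ![X, Y] l =
      α • (![X, Y] l * P - P * ![X, Y] l) + β • (![X, Y] l * Q - Q * ![X, Y] l) +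
        (![X, Y] l * t - t * ![X, Y] l) by
      simp only [mul_add, add_mul, mul_smul_comm, smul_mul_assoc, smul_sub]; abel]
    refine add_mem (Submodule.mem_sup_left (add_mem (S.smul_mem _ ?_) (S.smul_mem _ ?_)))
      (Submodule.mem_sup_right (hT3 l t ht))
    · fin_cases l <;> exact Submodule.subset_span (by simp)
    · fin_cases l <;> exact Submodule.subset_span (by simp)
  have h22 : ∀ a ∈ N ^ 2, ∀ b ∈ N ^ 2, a * b - b * a ∈ T := fun a ha b hb =>
    ⟨LinearMap.mem_ker.2 (hkill a b 2 2 (by omega) (by omega) ha hb _ (by omega) (hZ2 b hb)),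
      sub_mem (mul_mem_pow N ha hb) (mul_mem_pow N hb ha)⟩
  have hK : commOf N ≤ genComm k ![X, Y] ⊔ (S ⊔ T) := by
    refine Submodule.span_le.2 ?_
    rintro _ ⟨x, hx, y, hy, rfl⟩
    obtain ⟨a, ha⟩ := hG.exists_comb hx
    obtain ⟨b, hb⟩ := hG.exists_comb hy
    set x' := x - comb ![X, Y] a with hx'
    set y' := y - comb ![X, Y] b with hy'
    have hcomb : ∀ (c : Fin 2 → k) (z : R), z ∈ N ^ 2 →
        comb ![X, Y] c * z - z * comb ![X, Y] c ∈ S ⊔ T := fun c z hz => by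
      simp only [comb_apply, Finset.sum_mul, Finset.mul_sum, smul_mul_assoc, mul_smul_comm,
        ← Finset.sum_sub_distrib, ← smul_sub]
      exact Submodule.sum_mem _ fun l _ => Submodule.smul_mem _ _ (h2 z hz l)
    have e : x * y - y * x = (comb ![X, Y] a * comb ![X, Y] b - comb ![X, Y] b * comb ![X, Y] a) +
        (((comb ![X, Y] a * y' - y' * comb ![X, Y] a) - (comb ![X, Y] b * x' - x' * comb ![X, Y] b)) +
          (x' * y' - y' * x')) := by
      rw [hx', hy']
      simp only [mul_sub, sub_mul]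
      abel
    rw [SetLike.mem_coe, e]
    exact add_mem (Submodule.mem_sup_left (comm_comb_mem a b)) (Submodule.mem_sup_right
      (add_mem (sub_mem (hcomb a _ hb) (hcomb b _ ha)) (Submodule.mem_sup_right (h22 _ ha _ hb))))
  have hS3 : S ≤ N ^ 3 := by
    rw [hSdef, Submodule.span_le]
    have hl : ∀ {u w : R}, u ∈ N → w ∈ N ^ 2 → u * w - w * u ∈ N ^ 3 := fun hu hw =>
      sub_mem (by rw [pow_succ']; exact Submodule.mul_mem_mul hu hw)
        (by rw [pow_succ]; exact Submodule.mul_mem_mul hw hu)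
    rintro _ (rfl | rfl | rfl | rfl)
    exacts [hl hX hP2, hl hX hQ2, hl hY hP2, hl hY hQ2]
  -- the word of length four lies in the commutators
  have hPP : P * P ∈ N ^ 4 := mul_mem_pow N hP2 hP2
  obtain ⟨c, hc, l, hl, hcl⟩ := Submodule.mem_sup.1 (hsup (pow_succ_le_pow N hC.sq (by omega) hPP))
  have hl4 : l ∈ N ^ 4 := pow_le_pow_of_le N hC.sq (by omega) (by omega) hl
  have hc4 : c ∈ N ^ 4 := by
    have := sub_mem hPP hl4
    rwa [← hcl, add_sub_cancel_right] at this
  obtain ⟨w, hw, u, hu, rfl⟩ := Submodule.mem_sup.1 (hK hc)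
  obtain ⟨s, hs, t, ht, rfl⟩ := Submodule.mem_sup.1 hu
  have hw0 : w = 0 := hdisj w hw (by
    have := sub_mem (pow_succ_le_pow N hC.sq (by omega) hc4)
      (add_mem (hS3 hs) (pow_succ_le_pow N hC.sq (by omega) ht.2))
    rwa [add_sub_cancel_right] at this)
  have hs4 : s ∈ N ^ 4 := by
    have := sub_mem hc4 ht.2
    rwa [hw0, zero_add, add_sub_cancel_right] at this
  have hFs : F s = 0 := by
    simp only [hSdef, Submodule.mem_span_insert, Submodule.mem_span_singleton] at hs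
    obtain ⟨a₁, _, ⟨a₂, _, ⟨b₁, _, ⟨b₂, rfl⟩, rfl⟩, rfl⟩, rfl⟩ := hs
    have hX4 : ∀ {A B : R}, A ∈ N → B ∈ N → A * A ∈ N ^ 3 →
        A * (A * B) ∈ N ^ 4 ∧ B * A * A ∈ N ^ 4 := fun {A B} hA hB hA2 => by
      constructor
      · rw [← mul_assoc, pow_succ]; exact Submodule.mul_mem_mul hA2 hB
      · rw [mul_assoc, pow_succ']; exact Submodule.mul_mem_mul hB hA2
    obtain ⟨x1, x2⟩ := hX4 hX hY hX2
    obtain ⟨y1, y2⟩ := hX4 hY hX hY2
    have hmix : (a₂ - a₁) • (X * Y * X) + (b₁ - b₂) • (Y * X * Y) ∈ N ^ 4 := by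
      have e : (a₂ - a₁) • (X * Y * X) + (b₁ - b₂) • (Y * X * Y) =
          (a₁ • (X * P - P * X) + (a₂ • (X * Q - Q * X) + (b₁ • (Y * P - P * Y) + b₂ • (Y * Q - Q * Y)))) -
            (a₁ • (X * (X * Y)) - a₂ • (Y * X * X) - b₁ • (X * Y * Y) + b₂ • (Y * (Y * X))) := by
        rw [hP, hQ]
        simp only [smul_sub, sub_smul, ← mul_assoc]
        abel
      rw [e]
      exact sub_mem hs4 (add_mem (sub_mem (sub_mem (Submodule.smul_mem _ _ x1) (Submodule.smul_mem _ _ x2))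
        (Submodule.smul_mem _ _ y2)) (Submodule.smul_mem _ _ y1))
    have hcoef : a₂ = a₁ ∧ b₁ = b₂ := by
      by_contra hne
      have hspan3 := (hC.alt_span hG hX2 hY2 0).2
      simp only [zero_add, pow_one] at hspan3
      obtain ⟨r, hr⟩ : ∃ r, N ^ 3 ≤ Submodule.span k {r} ⊔ N ^ (3 + 1) := by
        by_cases ha : a₂ = a₁
        · refine ⟨X * Y * X, hspan3.trans (sup_le (Submodule.span_le.2 ?_) le_sup_right)⟩
          rintro _ (rfl | rfl)
          · exact Submodule.mem_sup_left (Submodule.mem_span_singleton_self _)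
          · rw [ha, sub_self, zero_smul, zero_add] at hmix
            exact Submodule.mem_sup_right
              ((Submodule.smul_mem_iff _ (sub_ne_zero.2 fun h => hne ⟨ha, h⟩)).1 hmix)
        · refine ⟨Y * X * Y, hspan3.trans (sup_le (Submodule.span_le.2 ?_) le_sup_right)⟩
          rintro _ (rfl | rfl)
          · refine (Submodule.smul_mem_iff _ (sub_ne_zero.2 ha)).1 ?_
            rw [show (a₂ - a₁) • (X * Y * X) =
              -((b₁ - b₂) • (Y * X * Y)) + ((a₂ - a₁) • (X * Y * X) + (b₁ - b₂) • (Y * X * Y)) by abel]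
            exact add_mem (neg_mem (Submodule.mem_sup_left
              (Submodule.smul_mem _ _ (Submodule.mem_span_singleton_self _)))) (Submodule.mem_sup_right hmix)
          · exact Submodule.mem_sup_left (Submodule.mem_span_singleton_self _)
      have := layerDim_le N (S := {r}) (by simpa using hr)
      rw [Finset.card_singleton] at this
      omega
    have hsum : ∀ A B : R, A ∈ N → B ∈ N → A * A ∈ N ^ 3 → B * Z - Z * B ∈ N ^ (1 + 2 * (j + 1) + 1) →
        F (A * (A * B) - A * B * A + (A * (B * A) - B * A * A)) = 0 := by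
      intro A B hA hB hA2 hBZ
      rw [show A * (A * B) - A * B * A + (A * (B * A) - B * A * A) = A * A * B - B * (A * A) by
        simp only [← mul_assoc]; abel]
      exact hkill _ _ 3 1 (by omega) le_rfl hA2 (by rwa [pow_one]) _ (by omega) hBZ
    obtain ⟨rfl, rfl⟩ := hcoef
    rw [show a₂ • (X * P - P * X) + (a₂ • (X * Q - Q * X) + (b₁ • (Y * P - P * Y) + b₁ • (Y * Q - Q * Y))) =
        a₂ • (X * (X * Y) - X * Y * X + (X * (Y * X) - Y * X * X)) +
          b₁ • (Y * (Y * X) - Y * X * Y + (Y * (X * Y) - X * Y * Y)) by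
      rw [hP, hQ]; simp only [smul_add]; abel, map_add, map_smul, map_smul,
      hsum X Y hX hY hX2 hZY, hsum Y X hY hX hY2 hZX, smul_zero, smul_zero, add_zero]
  -- contradiction
  have hFl : F l = 0 := by
    rw [hF, hC.mul_eq_zero_of_lt hL (show L < L + 2 * (j + 1) by omega) hl hZm, map_zero]
  have hFP : F (P * P) = 0 := by
    rw [← hcl, hw0, zero_add, map_add, map_add, hFs, LinearMap.mem_ker.1 ht.1, hFl, add_zero, add_zero]
  refine ht0 ?_
  rw [hF, hZdef, mul_add, map_add] at hFP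
  have hz : P * P * (Y * X) ^ (j + 1) = 0 := by
    rw [hP, pow_succ', show X * Y * (X * Y) * (Y * X * (Y * X) ^ j) =
      (X * Y * X) * ((Y * Y) * (X * (Y * X) ^ j)) by simp only [mul_assoc]]
    exact hC.mul_eq_zero_of_lt hL (show L < 3 + (3 + (1 + 2 * j)) by omega)
      (by rw [pow_succ, pow_two]; exact Submodule.mul_mem_mul (Submodule.mul_mem_mul hX hY) hX)
      (mul_mem_pow N hY2 (mul_mem_pow N (by rwa [pow_one]) (alt_mem hY hX j)))
  rw [hz, map_zero, add_zero] at hFP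
  rw [pow_succ' _ (j + 1 + 1), pow_succ' _ (j + 1), ← mul_assoc]
  exact hFP

end IsLocalTrace

end Cfsg.Lib.Blocks.RankOneFive
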