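import Mathlib
import Cfsg.Agent.Blocks.RankOneFive.Graded
import Cfsg.Agent.Blocks.RankOneFive.Alternating

/-!
# Two generators: the radical has length at most four
-/

set_option autoImplicit false
set_option linter.unusedSectionVars false

namespace Cfsg.Lib.Blocks.RankOneFive

open Module Cfsg.Lib.Blocks.RankOneSmall
open scoped Pointwise

variable {k R : Type*} [Field k] [Ring R] [Algebra k R] [FiniteDimensional k R]
  {N : Submodule k R} {τ : R →ₗ[k] k} {L : ℕ}

theorem genComm_two (g : Fin 2 → R) :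
    genComm k g ≤ Submodule.span k {g 0 * g 1 - g 1 * g 0} := by
  rw [genComm, Submodule.span_le]
  rintro _ ⟨⟨i, j⟩, rfl⟩
  have m₁ := Submodule.mem_span_singleton_self (R := k) (g 0 * g 1 - g 1 * g 0)
  have n₁ : g 1 * g 0 - g 0 * g 1 ∈ Submodule.span k {g 0 * g 1 - g 1 * g 0} := by
    have e : g 1 * g 0 - g 0 * g 1 = -(g 0 * g 1 - g 1 * g 0) := by abel
    rw [e]; exact neg_mem m₁
  fin_cases i <;> fin_cases j <;> first | assumption | (simp only [sub_self]; exact Submodule.zero_mem _)

namespace IsLocalTrace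

/-- The second layer is more than the commutator. -/
theorem not_sq_le (hC : IsLocalTrace N τ) (hL : IsTopDegree N L) (hL4 : 4 ≤ L) {g : Fin 2 → R}
    (hG : IsGen N g) : ¬ N ^ 2 ≤ genComm k g ⊔ N ^ 3 := fun hsq => by
  refine hC.false_of_detect hL hG hL4 0 1 fun X hX hw i j => ?_
  have hij : g i * g j ∈ N ^ 2 := by rw [pow_two]; exact Submodule.mul_mem_mul (hG.mem i) (hG.mem j)
  obtain ⟨s, hs, t, ht, hst⟩ := Submodule.mem_sup.1 (hsq hij)
  obtain ⟨a, rfl⟩ := Submodule.mem_span_singleton.1 (genComm_two g hs)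
  rw [← hst, add_mul, hC.mul_eq_zero_of_lt hL (by omega) ht hX, add_zero, smul_mul_assoc, map_smul, hw,
    smul_zero]

theorem sup_cube (hC : IsLocalTrace N τ) (hL : IsTopDegree N L) (hL4 : 4 ≤ L)
    (hsize : finrank k (N ^ 2 : Submodule k R) ≤ finrank k (commOf N) + 2) {g : Fin 2 → R}
    (hG : IsGen N g) : commOf N ⊔ N ^ 3 = commOf N ⊔ N ^ L := by
  refine (Submodule.eq_of_le_of_finrank_le
    (sup_le_sup_left (pow_le_pow_of_le N hC.sq (by omega) (by omega : 3 ≤ L)) _) ?_).symm
  have hle : commOf N ⊔ N ^ 3 ≤ N ^ 2 :=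
    sup_le (by rw [pow_two]; exact RankOneSmall.commOf_le N) (pow_succ_le_pow N hC.sq (by omega))
  have hlt : commOf N ⊔ N ^ 3 < N ^ 2 := lt_of_le_of_ne hle fun h => hC.not_sq_le hL hL4 hG
    (h.ge.trans (sup_le (hG.commOf_le_cube hC.sq) le_sup_right))
  have := Submodule.finrank_lt_finrank_of_lt hlt
  have := hC.finrank_sup_top hL (by omega)
  omega

theorem layerDim_two_le_two (hC : IsLocalTrace N τ) (hL : IsTopDegree N L) (hL3 : 3 ≤ L)
    (hsize : finrank k (N ^ 2 : Submodule k R) ≤ finrank k (commOf N) + 2) {g : Fin 2 → R}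
    (hG : IsGen N g) : layerDim N 2 ≤ 2 := by
  have h1 : commOf N ⊔ N ^ 3 ≤ Submodule.span k {g 0 * g 1 - g 1 * g 0} ⊔ N ^ 3 :=
    sup_le ((hG.commOf_le_cube hC.sq).trans (sup_le_sup_right (genComm_two g) _)) le_sup_right
  have h2 := Submodule.finrank_mono h1
  have h3 := Submodule.finrank_add_le_finrank_add_finrank
    (Submodule.span k {g 0 * g 1 - g 1 * g 0}) (N ^ 3)
  have h4 : finrank k (Submodule.span k {g 0 * g 1 - g 1 * g 0}) ≤ 1 :=
    (finrank_span_le_card ({g 0 * g 1 - g 1 * g 0} : Set R)).trans (by simp)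
  have h5 := Submodule.finrank_mono (sup_le_sup_left
    (pow_le_pow_of_le N hC.sq (by omega) hL3) (commOf N))
  have h6 := hC.finrank_sup_top hL (by omega)
  have h7 := finrank_pow N hC.sq (show 1 ≤ 2 by omega)
  rw [show 2 + 1 = 3 from rfl] at h7
  omega

/-- The commutator lies outside the cube. -/
theorem comm_not_mem_cube (hC : IsLocalTrace N τ) (hL : IsTopDegree N L) (hL4 : 4 ≤ L)
    (hne : commOf N ≠ ⊥) (hsize : finrank k (N ^ 2 : Submodule k R) ≤ finrank k (commOf N) + 2)
    {g : Fin 2 → R} (hG : IsGen N g) : g 0 * g 1 - g 1 * g 0 ∉ N ^ 3 := by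
  classical
  intro hw
  have hwC : genComm k g ≤ N ^ 3 := (genComm_two g).trans ((Submodule.span_singleton_le_iff_mem _ _).2 hw)
  have hK3 : commOf N ≤ N ^ 3 := (hG.commOf_le_cube hC.sq).trans (sup_le hwC le_rfl)
  have h3 : finrank k (commOf N) + 1 ≤ finrank k (N ^ 3 : Submodule k R) :=
    (hC.finrank_sup_top hL (by omega)).trans
      (Submodule.finrank_mono (sup_le hK3 (pow_le_pow_of_le N hC.sq (by omega) (by omega))))
  have hsquare : ∃ i, g i * g i ∉ N ^ 3 := by
    by_contra h
    push Not at h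
    have hb := hC.eq_bot_of_stable (show 1 ≤ 3 by omega) (hG.cube_le.trans (sup_le (Submodule.span_le.2 ?_) le_rfl))
    · have hle := pow_le_pow_of_le N hC.sq (show 1 ≤ 3 by omega) (show 3 ≤ L by omega)
      rw [hb, le_bot_iff] at hle
      exact hL.ne hle
    rintro _ ⟨⟨⟨i, j⟩, l⟩, rfl⟩
    show g i * g j * g l ∈ N ^ 4
    have hswap : ∀ a b, g a * g b - g b * g a ∈ N ^ 3 := fun a b =>
      hwC (Submodule.subset_span ⟨(a, b), rfl⟩)
    by_cases hij : i = j
    · subst hij; rw [pow_succ]; exact Submodule.mul_mem_mul (h i) (hG.mem l)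
    by_cases hjl : j = l
    · subst hjl; rw [mul_assoc, pow_succ']; exact Submodule.mul_mem_mul (hG.mem i) (h j)
    obtain rfl : i = l := by omega
    rw [show g i * g j * g i = g i * g i * g j + g i * (g j * g i - g i * g j) by
      rw [mul_sub, mul_assoc, mul_assoc]; abel]
    refine add_mem ?_ ?_
    · rw [pow_succ]; exact Submodule.mul_mem_mul (h i) (hG.mem j)
    · rw [pow_succ']; exact Submodule.mul_mem_mul (hG.mem i) (hswap j i)
  obtain ⟨i, hi⟩ := hsquare
  set x := g i with hxdef
  have hx : x ∈ N := hG.mem i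
  have hx2 : x * x ∈ N ^ 2 := by rw [pow_two]; exact Submodule.mul_mem_mul hx hx
  have hline : N ^ 2 ≤ Submodule.span k {x * x} ⊔ N ^ 3 := by
    refine le_of_eq (Submodule.eq_of_le_of_finrank_le
      (sup_le ((Submodule.span_singleton_le_iff_mem _ _).2 hx2)
        (pow_le_pow_of_le N hC.sq (by omega) (show 2 ≤ 3 by omega))) ?_).symm
    have := Submodule.finrank_lt_finrank_of_lt (lt_of_le_of_ne
      (le_sup_right : N ^ 3 ≤ Submodule.span k {x * x} ⊔ N ^ 3) fun h => hi (by
        rw [h]; exact Submodule.mem_sup_left (Submodule.mem_span_singleton_self _)))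
    omega
  have hchain : ∀ m, 2 ≤ m → N ^ m ≤ Submodule.span k {x ^ m} ⊔ N ^ (m + 1) := by
    intro m hm
    induction m, hm using Nat.le_induction with
    | base => rwa [pow_two x]
    | succ m hm ih =>
      rw [pow_succ' N m]
      refine Submodule.mul_le.2 fun a ha z hz => ?_
      obtain ⟨s, hs, t, ht, rfl⟩ := Submodule.mem_sup.1 (ih hz)
      obtain ⟨c, rfl⟩ := Submodule.mem_span_singleton.1 hs
      rw [mul_add, mul_smul_comm]
      refine add_mem (Submodule.smul_mem _ _ ?_) (Submodule.mem_sup_right (by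
        rw [pow_succ' N (m + 1)]; exact Submodule.mul_mem_mul ha ht))
      obtain ⟨m', rfl⟩ : ∃ m', m = m' + 1 := ⟨m - 1, by omega⟩
      have hax : a * x ∈ N ^ 2 := by rw [pow_two]; exact Submodule.mul_mem_mul ha hx
      obtain ⟨s', hs', t', ht', hst'⟩ := Submodule.mem_sup.1 (hline hax)
      obtain ⟨d, rfl⟩ := Submodule.mem_span_singleton.1 hs'
      rw [pow_succ' x m', ← mul_assoc, ← hst', add_mul, smul_mul_assoc, mul_assoc x, ← pow_succ', ← pow_succ']
      refine add_mem (Submodule.mem_sup_left (Submodule.smul_mem _ _ (Submodule.mem_span_singleton_self _)))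
        (Submodule.mem_sup_right ?_)
      rw [show m' + 1 + 1 + 1 = 3 + m' by omega]
      exact mul_mem_pow N ht' (Submodule.pow_mem_pow _ hx m')
  have hcen : ∀ z : R, z * x = x * z → ∀ d m, 2 ≤ m → L + 1 ≤ m + d → ∀ a ∈ N ^ m, z * a = a * z := by
    intro z hz d
    induction d with
    | zero =>
      intro m hm hd a ha
      rw [hC.eq_zero_of_lt hL (by omega) ha, mul_zero, zero_mul]
    | succ d ih =>
      intro m hm hd a ha
      obtain ⟨s, hs, t, ht, rfl⟩ := Submodule.mem_sup.1 (hchain m hm ha)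
      obtain ⟨c, rfl⟩ := Submodule.mem_span_singleton.1 hs
      rw [mul_add, add_mul, ih (m + 1) (by omega) (by omega) t ht, mul_smul_comm, smul_mul_assoc,
        (Commute.pow_right (show Commute z x from hz) m).eq]
  have hcen2 : ∀ z : R, z * x = x * z → ∀ a ∈ N ^ 2, z * a = a * z := fun z hz =>
    hcen z hz (L + 1) 2 le_rfl (by omega)
  -- the generators commute
  have hgg : ∀ l, g l * x = x * g l := by
    intro l
    set P := g l * x - x * g l with hP
    have hPN : P ∈ N :=
      N.sub_mem (hC.sq (Submodule.mul_mem_mul (hG.mem l) hx)) (hC.sq (Submodule.mul_mem_mul hx (hG.mem l)))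
    have hnat : ∀ a b c : R, a ∈ N → b ∈ N → c ∈ N → a * c = c * a → τ ((a * b - b * a) * c) = 0 := by
      intro a b c ha hb hc hac
      rw [sub_mul, map_sub, mul_assoc, mul_assoc, hac,
        hC.cyc ha (hC.sq (Submodule.mul_mem_mul hb hc)), hC.cyc hb (hC.sq (Submodule.mul_mem_mul hc ha)),
        mul_assoc, hC.cyc hb (hC.sq (Submodule.mul_mem_mul hc ha)), sub_self]
    refine sub_eq_zero.1 (hC.nd P hPN (hC.trace _ (comm_mem_commOf N (hG.mem l) hx)) fun a ha => ?_)
    obtain ⟨c, hc⟩ := hG.exists_comb ha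
    rw [show P * a = P * comb g c + P * (a - comb g c) by rw [mul_sub, add_sub_cancel], map_add]
    have e1 : τ (P * (a - comb g c)) = 0 := by
      rw [hP, ← neg_sub, neg_mul, map_neg, hnat x (g l) _ hx (hG.mem l) (hC.mem_self (by omega) hc)
        (hcen2 x rfl _ hc), neg_zero]
    rw [e1, add_zero, comb_apply, Finset.mul_sum, map_sum]
    refine Finset.sum_eq_zero fun q _ => ?_
    rw [mul_smul_comm, map_smul]
    by_cases hq : q = i
    · subst hq
      rw [hP, ← neg_sub, neg_mul, map_neg, ← hxdef, hnat x (g l) x hx (hG.mem l) hx rfl, neg_zero, smul_zero]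
    · by_cases hl : l = i
      · subst hl; rw [hP, hxdef, sub_self, zero_mul, map_zero, smul_zero]
      · obtain rfl : q = l := by omega
        rw [hP, hnat (g q) x (g q) (hG.mem q) hx (hG.mem q) rfl, smul_zero]
  have hg : ∀ l, ∀ a ∈ N, g l * a = a * g l := by
    intro l a ha
    obtain ⟨c, hc⟩ := hG.exists_comb ha
    have e1 := hcen2 (g l) (hgg l) _ hc
    have e2 : g l * comb g c = comb g c * g l := by
      simp only [comb_apply, Finset.mul_sum, Finset.sum_mul, mul_smul_comm, smul_mul_assoc]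
      refine Finset.sum_congr rfl fun q _ => ?_
      by_cases hq : q = i
      · subst hq; rw [hgg l]
      · by_cases hl : l = i
        · subst hl; rw [← hgg q]
        · obtain rfl : q = l := by omega
          rfl
    rw [mul_sub, sub_mul, e2] at e1
    exact sub_left_inj.1 e1
  refine hne (le_bot_iff.1 (Submodule.span_le.2 ?_))
  rintro _ ⟨a, ha, b, hb, rfl⟩
  rw [SetLike.mem_coe, Submodule.mem_bot, sub_eq_zero]
  obtain ⟨c, hc⟩ := hG.exists_comb ha
  have e1 : ∀ b ∈ N, comb g c * b = b * comb g c := fun b hb => by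
    simp only [comb_apply, Finset.mul_sum, Finset.sum_mul, mul_smul_comm, smul_mul_assoc]
    exact Finset.sum_congr rfl fun q _ => by rw [hg q b hb]
  obtain ⟨d, hd⟩ := hG.exists_comb hb
  have e3 : (a - comb g c) * x = x * (a - comb g c) := (hg i _ (hC.mem_self (by omega) hc)).symm
  have e4 := hcen2 _ e3 _ hd
  have e5 : (a - comb g c) * comb g d = comb g d * (a - comb g c) := by
    simp only [comb_apply, Finset.mul_sum, Finset.sum_mul, mul_smul_comm, smul_mul_assoc]
    refine Finset.sum_congr rfl fun q _ => ?_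
    rw [hg q _ (hC.mem_self (m := 2) (by omega) (by simpa only [comb_apply] using hc))]
  rw [show a * b = comb g c * b + ((a - comb g c) * comb g d + (a - comb g c) * (b - comb g d)) by
      simp only [sub_mul, mul_sub]; abel,
    show b * a = b * comb g c + (comb g d * (a - comb g c) + (b - comb g d) * (a - comb g c)) by
      simp only [sub_mul, mul_sub]; abel, e1 b hb, e4, e5]

theorem genComm_disjoint_cube (hC : IsLocalTrace N τ) (hL : IsTopDegree N L) (hL4 : 4 ≤ L)
    (hne : commOf N ≠ ⊥) (hsize : finrank k (N ^ 2 : Submodule k R) ≤ finrank k (commOf N) + 2)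
    {g : Fin 2 → R} (hG : IsGen N g) : ∀ x ∈ genComm k g, x ∈ N ^ 3 → x = 0 := by
  intro x hx hx3
  obtain ⟨a, rfl⟩ := Submodule.mem_span_singleton.1 (genComm_two g hx)
  rcases eq_or_ne a 0 with rfl | ha
  · rw [zero_smul]
  · exact absurd ((Submodule.smul_mem_iff _ ha).1 hx3) (hC.comm_not_mem_cube hL hL4 hne hsize hG)

/-- **No two-generated radical of length five or more.** -/
theorem false_two [IsAlgClosed k] (hC : IsLocalTrace N τ) (hL : IsTopDegree N L) (hL5 : 5 ≤ L)
    (hne : commOf N ≠ ⊥) (hsize : finrank k (N ^ 2 : Submodule k R) ≤ finrank k (commOf N) + 2)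
    (h2 : layerDim N 1 = 2) : False := by
  classical
  have hL4 : 4 ≤ L := by omega
  obtain ⟨g, hG, hind⟩ := exists_gen N hC.sq h2
  have hsupL : ∀ {g' : Fin 2 → R}, IsGen N g' → N ^ 3 ≤ commOf N ⊔ N ^ L := fun hG' =>
    le_sup_right.trans (hC.sup_cube hL hL4 hsize hG').le
  have hd2le := hC.layerDim_two_le_two hL (by omega) hsize hG
  have hrad : ∀ x ∈ N, (∀ X ∈ N ^ (L - 1), x * X = 0) → x ∈ N ^ 2 := by
    intro x hx hxX
    by_contra hx2
    obtain ⟨g', i₀, hG', hgi⟩ := hG.exists_through hx hx2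
    obtain ⟨j, hj⟩ : ∃ j : Fin 2, ∀ i, i = i₀ ∨ i = j :=
      (by decide : ∀ a : Fin 2, ∃ j : Fin 2, ∀ i, i = a ∨ i = j) i₀
    set y := g' j with hy
    have hyN : y ∈ N := hG'.mem j
    have hstep : ∀ (a : Fin 2 → k) (r : R), r ∈ N ^ (L - 1) → τ (comb g' a * r) = a j * τ (y * r) := by
      intro a r hr
      rw [comb_apply, Finset.sum_mul, map_sum, Finset.sum_eq_single j ?_ (by simp), smul_mul_assoc,
        map_smul, smul_eq_mul]
      intro i _ hij
      rw [(hj i).resolve_right hij, hgi, smul_mul_assoc, hxX r hr, smul_zero, map_zero]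
    have htop : τ (y ^ L) ≠ 0 := by
      intro h0
      have key : ∀ m, 1 ≤ m → m ≤ L → ∀ z ∈ N ^ m, τ (z * y ^ (L - m)) = 0 := by
        intro m hm
        induction m, hm using Nat.le_induction with
        | base =>
          intro _ z hz
          rw [pow_one] at hz
          obtain ⟨a, ha⟩ := hG'.exists_comb hz
          have hyL := Submodule.pow_mem_pow N hyN (L - 1)
          have e := hC.mul_eq_zero_of_lt hL (show L < 2 + (L - 1) by omega) ha hyL
          rw [sub_mul, sub_eq_zero] at e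
          rw [e, hstep a _ hyL, ← pow_succ', show L - 1 + 1 = L by omega, h0, mul_zero]
        | succ m hm ih =>
          intro hmL z hz
          rw [pow_succ'] at hz
          refine Submodule.mul_induction_on hz (fun c hc z' hz' => ?_) fun a b ha hb => by
            rw [add_mul, map_add, ha, hb, add_zero]
          obtain ⟨a, ha⟩ := hG'.exists_comb hc
          have hr : z' * y ^ (L - (m + 1)) ∈ N ^ (L - 1) := by
            rw [show L - 1 = m + (L - (m + 1)) by omega]
            exact mul_mem_pow N hz' (Submodule.pow_mem_pow N hyN _)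
          have e := hC.mul_eq_zero_of_lt hL (show L < 2 + (L - 1) by omega) ha hr
          rw [sub_mul, sub_eq_zero] at e
          rw [mul_assoc, e, hstep a _ hr, hC.cyc hyN (hC.mem_self (by omega) hr), mul_assoc, ← pow_succ,
            show L - (m + 1) + 1 = L - m by omega, ih (by omega) z' hz', mul_zero]
      refine hL.ne ((Submodule.eq_bot_iff _).2 fun z hz => hC.top_eq_zero hL (by omega) hz ?_)
      simpa using key L (by omega) le_rfl z hz
    set Y := y ^ (L - 3)
    have hYm : Y ∈ N ^ (L - 3) := Submodule.pow_mem_pow N hyN _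
    have hkill : N ^ 4 ≤ LinearMap.ker (τ.comp (LinearMap.mulRight k Y)) := fun z hz => by
      show τ (z * Y) = 0
      rw [hC.mul_eq_zero_of_lt hL (by omega) hz hYm, map_zero]
    let f : Module.Dual k (lay3 N) :=
      ((N ^ 4).liftQ (τ.comp (LinearMap.mulRight k Y)) hkill).comp (lay3 N).subtype
    have hval : ∀ a b c : Fin 2 → k, f (prodR N g' hG'.mem (prod2 N g' hG'.mem a b) c) =
        a j * b j * c j * τ (y ^ L) := by
      intro a b c
      show τ (comb g' a * comb g' b * comb g' c * Y) = _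
      have ma := comb_mem hG'.mem a
      have mb := comb_mem hG'.mem b
      have mc := comb_mem hG'.mem c
      have p1 : N = N ^ 1 := (pow_one N).symm
      rw [mul_assoc, mul_assoc, hstep a _ (by
        rw [show L - 1 = 1 + (1 + (L - 3)) by omega]
        exact mul_mem_pow N (p1 ▸ mb) (mul_mem_pow N (p1 ▸ mc) hYm))]
      rw [hC.cyc hyN (hC.mem_self (m := 1 + (1 + (L - 3))) (by omega)
        (mul_mem_pow N (p1 ▸ mb) (mul_mem_pow N (p1 ▸ mc) hYm))), mul_assoc, mul_assoc, hstep b _ (by
          rw [show L - 1 = 1 + ((L - 3) + 1) by omega]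
          exact mul_mem_pow N (p1 ▸ mc) (mul_mem_pow N hYm (p1 ▸ hyN)))]
      rw [hC.cyc hyN (hC.mem_self (m := 1 + ((L - 3) + 1)) (by omega)
        (mul_mem_pow N (p1 ▸ mc) (mul_mem_pow N hYm (p1 ▸ hyN)))), mul_assoc, mul_assoc, hstep c _ (by
          rw [show L - 1 = (L - 3) + (1 + 1) by omega]
          exact mul_mem_pow N hYm (mul_mem_pow N (p1 ▸ hyN) (p1 ▸ hyN)))]
      rw [show y * (Y * (y * y)) = y ^ L by
        rw [show y * y = y ^ 2 by rw [pow_two], ← pow_add, ← pow_succ']
        congr 1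
        omega]
      ring
    have hf := hC.cyclicFun_eq_zero hL4 hG' (hC.genComm_disjoint_cube hL hL4 hne hsize hG') (hsupL hG') f
      fun a b c => by rw [hval, hval]; ring
    have h1 := hval (Pi.single j 1) (Pi.single j 1) (Pi.single j 1)
    rw [hf, LinearMap.zero_apply, Pi.single_eq_same, one_mul, one_mul, one_mul] at h1
    exact htop h1.symm
  have hd := hC.layerDim_one_le hL (by omega) hrad
  have hd2 : layerDim N 2 = 2 := le_antisymm hd2le (by
    by_contra h
    have := hC.layerDim_le_of_le (c := 1) (by omega) le_rfl (show layerDim N 2 ≤ 1 by omega) (L - 1) (by omega)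
    omega)
  have hd3 : 2 ≤ layerDim N 3 := by
    by_contra h
    have := hC.layerDim_le_of_le (c := 1) (by omega) (show 2 ≤ 3 by omega)
      (show layerDim N 3 ≤ 1 by omega) (L - 1) (by omega)
    omega
  have hn : finrank k (Fin 2 → k) = 2 := by simp
  have hU : finrank k (lay2 N) = 2 := hd2
  obtain ⟨u, hu₁⟩ := exists_regular_two (prod2 N g hG.mem) hn hU (span_prod2 hG)
    fun p hp => hC.prod2_left_ker hL hL4 hG hind hrad p hp
  have hu₂ : Function.Injective (prod2 N g hG.mem u) := hC.left_inj_of_right_surj hL hL4 hG hind hrad u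
    ((LinearMap.injective_iff_surjective_of_finrank_eq_finrank (hn.trans hU.symm)).1 hu₁)
  rcases exists_cyclic_of_regular (prod2 N g hG.mem) (prodR N g hG.mem) (prodL N g hG.mem)
    (prod_assoc hG.mem) (span_prod3 hG) (hU.trans hn.symm) (by rw [hn, finrank_lay3]; exact hd3)
    (Or.inl hn) hu₁ hu₂ with ⟨f, hf0, hf⟩ | ⟨-, x, y, hxy, hxx, hyy⟩
  · exact hf0 (hC.cyclicFun_eq_zero hL4 hG (hC.genComm_disjoint_cube hL hL4 hne hsize hG) (hsupL hG) f hf)
  rw [prod2_apply, toLay2_eq_zero] at hxx hyy
  have hG' : IsGen N ![comb g x, comb g y] := by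
    refine ⟨fun i => by fin_cases i <;> exact comb_mem hG.mem _, hG.gen.trans (sup_le ?_ le_sup_right)⟩
    rw [Submodule.span_le]
    rintro _ ⟨i, rfl⟩
    have hi : Pi.single i (1 : k) ∈ Submodule.span k {x, y} := hxy ▸ Submodule.mem_top
    obtain ⟨a, b, hab⟩ := Submodule.mem_span_pair.1 hi
    refine Submodule.mem_sup_left ?_
    rw [← comb_single (k := k) g i, ← hab, map_add, map_smul, map_smul]
    exact add_mem (Submodule.smul_mem _ _ (Submodule.subset_span ⟨0, rfl⟩))
      (Submodule.smul_mem _ _ (Submodule.subset_span ⟨1, rfl⟩))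
  exact hC.false_of_alternating hL hL5 hG' hxx hyy (hC.genComm_disjoint_cube hL hL4 hne hsize hG') hd3
    (hsupL hG')

end IsLocalTrace

end Cfsg.Lib.Blocks.RankOneFive
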