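import Mathlib
import Cfsg.Agent.Blocks.RankOneFive.ThreeGen
import Cfsg.Agent.Blocks.RankOneFive.TwoGen

/-!
# Local symmetric algebras with a centre of dimension at most five

Their radical has dimension at most seven.
-/

set_option autoImplicit false
set_option linter.unusedSectionVars false

namespace Cfsg.Lib.Blocks.RankOneFive

open Module Cfsg.Lib.Blocks.RankOneSmall
open scoped Pointwise

variable {k R : Type*} [Field k] [Ring R] [Algebra k R] [FiniteDimensional k R]

/-- **The radical has dimension at most seven.** -/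
theorem finrank_le_seven [IsAlgClosed k] (N : Submodule k R) (hN2 : N * N ≤ N)
    (hnil : ∀ S : Submodule k R, S ≤ N → S ≤ N * S ⊔ S * N → S = ⊥)
    (hsize : finrank k N ≤ finrank k (commOf N) + 4)
    (τ : R →ₗ[k] k) (hτc : ∀ x ∈ commOf N, τ x = 0)
    (hnd : ∀ z ∈ N, τ z = 0 → (∀ a ∈ N, τ (z * a) = 0) → z = 0) : finrank k N ≤ 7 := by
  classical
  by_cases hne : commOf N = ⊥
  · rw [hne, finrank_bot] at hsize
    omega
  have hC : IsLocalTrace N τ := ⟨hN2, hnil, hτc, hnd⟩
  have hK2 : commOf N ≤ N ^ 2 := by rw [pow_two]; exact RankOneSmall.commOf_le N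
  have hNne : N ≠ ⊥ := fun h => hne (le_bot_iff.1 ((RankOneSmall.commOf_le N).trans (hN2.trans h.le)))
  obtain ⟨L, hL1, hL⟩ := hC.exists_top hNne
  have hL3 : 3 ≤ L := by
    by_contra h
    refine hne ((Submodule.eq_bot_iff _).2 fun z hz => ?_)
    rcases (show L = 1 ∨ L = 2 by omega) with rfl | rfl
    · exact hC.eq_zero_of_lt hL (show 1 < 2 by omega) (hK2 hz)
    · exact hC.top_eq_zero hL hL1 (hK2 hz) (hτc z hz)
  have h1 := finrank_pow N hN2 (le_refl 1)
  rw [pow_one, show 1 + 1 = 2 from rfl] at h1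
  have h2 := finrank_pow N hN2 (show 1 ≤ 2 by omega)
  rw [show 2 + 1 = 3 from rfl] at h2
  have h3 := finrank_pow N hN2 (show 1 ≤ 3 by omega)
  rw [show 3 + 1 = 4 from rfl] at h3
  have hKlt : finrank k (commOf N) + 1 ≤ finrank k (N ^ 2 : Submodule k R) :=
    (hC.finrank_sup_top hL hL1).trans
      (Submodule.finrank_mono (sup_le hK2 (pow_le_pow_of_le N hN2 (by omega) (by omega))))
  have htop := hC.finrank_top_le hL hL1
  obtain ⟨r, hr⟩ : ∃ r, layerDim N 1 = r := ⟨_, rfl⟩
  have hr3 : r ≤ 3 := by omega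
  interval_cases r
  · -- no generator
    obtain ⟨g, hG, -⟩ := exists_gen N hN2 hr
    refine absurd (commOf_eq_bot_of_cyclic N hN2 hnil N.zero_mem fun x hx => ⟨0, ?_⟩) hne
    obtain ⟨a, ha⟩ := hG.exists_comb hx
    rw [comb_apply, Finset.univ_eq_empty, Finset.sum_empty, sub_zero, pow_two] at ha
    simpa using ha
  · -- one generator
    obtain ⟨g, hG, -⟩ := exists_gen N hN2 hr
    refine absurd (commOf_eq_bot_of_cyclic N hN2 hnil (hG.mem 0) fun x hx => ?_) hne
    obtain ⟨a, ha⟩ := hG.exists_comb hx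
    rw [comb_apply, Fin.sum_univ_one, pow_two] at ha
    exact ⟨a 0, ha⟩
  · -- two generators
    by_cases hL5 : 5 ≤ L
    · exact (hC.false_two hL hL5 hne (by omega) hr).elim
    obtain ⟨g, hG, -⟩ := exists_gen N hN2 hr
    have hd2 := hC.layerDim_two_le_two hL hL3 (by omega) hG
    have hd3 := hC.layerDim_le_of_le (c := 2) le_rfl le_rfl hd2 3 (by omega)
    rcases (show L = 3 ∨ L = 4 by omega) with rfl | rfl <;> omega
  · -- three generators
    by_cases hL4 : 4 ≤ L
    · exact (hC.false_three hL hL4 (by omega) hr).elim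
    obtain rfl : L = 3 := by omega
    have hd2 := hC.layerDim_two_le_three hL le_rfl (by omega) hr
    omega

end Cfsg.Lib.Blocks.RankOneFive
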