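import Mathlib
import Cfsg.Agent.Blocks.Star.Watanabe
import Cfsg.Agent.Blocks.RankTwo.Count
import Cfsg.Agent.Blocks.KleinFourBlock

/-!
# No abelian defect group of order eight with one modular and five ordinary characters

The trace formula of the linear characters fixed by the inertial group makes the number of
characters even, and without such characters the inertial group is transitive, so that a central
involution would have four modular characters above a Klein four quotient.
-/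

set_option autoImplicit false
set_option linter.unusedSectionVars false
set_option linter.style.haveILetI false

namespace Cfsg.Lib.Blocks.RankOneFive

open Cfsg Cfsg.Lib.Chars Cfsg.Lib.Blocks Cfsg.Lib.Blocks.Star
open Cfsg.Lib.Blocks.Frobenius

universe u

local notation "C⟨" P "⟩" => Subgroup.centralizer (SetLike.coe P)

section Counting

variable {G : Type u} [Group G] [Fintype G]

open scoped Classical in
/-- An orbit under conjugation, inside a normalized subgroup. -/
noncomputable def orb (D T : Subgroup G) (y : D) : Finset D :=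
  Finset.univ.filter fun y' : D => ∃ t ∈ T, t * (y : G) * t⁻¹ = (y' : G)

variable {D T : Subgroup G}

theorem mem_orb {y y' : D} : y' ∈ orb D T y ↔ ∃ t ∈ T, t * (y : G) * t⁻¹ = (y' : G) := by
  classical
  simp [orb]

theorem self_mem_orb (y : D) : y ∈ orb D T y := mem_orb.2 ⟨1, T.one_mem, by simp⟩

theorem orb_eq_of_mem {y y' : D} (h : y' ∈ orb D T y) : orb D T y' = orb D T y := by
  obtain ⟨t, ht, hty⟩ := mem_orb.1 h
  ext z
  rw [mem_orb, mem_orb]
  constructor
  · rintro ⟨s, hs, hsz⟩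
    exact ⟨s * t, T.mul_mem hs ht, by rw [← hsz, ← hty]; group⟩
  · rintro ⟨s, hs, hsz⟩
    exact ⟨s * t⁻¹, T.mul_mem hs (T.inv_mem ht), by rw [← hsz, ← hty]; group⟩

/-- The orbit formula. -/
theorem card_orb_mul (hn : ∀ t ∈ T, t ∈ Subgroup.normalizer (D : Set G)) (y : D) :
    (orb D T y).card * Nat.card (T ⊓ C⟨Subgroup.zpowers (y : G)⟩ : Subgroup G) = Nat.card T := by
  classical
  let Ψ : T → D := fun t => ⟨(t : G) * y * (t : G)⁻¹,
    (Subgroup.mem_normalizer_iff.1 (hn t t.2) y).1 y.2⟩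
  have himg : Finset.univ.image Ψ = orb D T y := by
    ext z
    rw [mem_orb, Finset.mem_image]
    exact ⟨fun ⟨t, _, ht⟩ => ⟨t, t.2, congrArg Subtype.val ht⟩,
      fun ⟨t, ht, htz⟩ => ⟨⟨t, ht⟩, Finset.mem_univ _, Subtype.ext htz⟩⟩
  have hcard := Finset.card_eq_sum_card_image Ψ Finset.univ
  rw [himg, Finset.card_univ, ← Nat.card_eq_fintype_card] at hcard
  rw [hcard]
  refine (Finset.sum_const_nat fun z hz => ?_).symm
  rw [← himg] at hz
  obtain ⟨t₀, -, rfl⟩ := Finset.mem_image.1 hz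
  rw [Nat.card_eq_fintype_card]
  symm
  refine Finset.card_bij (s := Finset.univ)
    (fun (d : (T ⊓ C⟨Subgroup.zpowers (y : G)⟩ : Subgroup G)) _ => t₀ * ⟨d, d.2.1⟩)
    (fun d _ => ?_) (fun d _ d' _ h => ?_) ?_
  · refine Finset.mem_filter.2 ⟨Finset.mem_univ _, Subtype.ext ?_⟩
    have h1 : (d : G) * y = y * d :=
      (Subgroup.mem_centralizer_iff.1 d.2.2 _ (Subgroup.mem_zpowers (y : G))).symm
    show (t₀ : G) * d * y * ((t₀ : G) * d)⁻¹ = (t₀ : G) * y * (t₀ : G)⁻¹
    rw [mul_assoc (t₀ : G) (d : G) (y : G), h1]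
    group
  · exact Subtype.ext (mul_left_cancel
      (congrArg (fun x : T => (x : G)) h : (t₀ : G) * d = (t₀ : G) * d'))
  · intro t ht
    have ht' : (t : G) * y * (t : G)⁻¹ = (t₀ : G) * y * (t₀ : G)⁻¹ :=
      congrArg Subtype.val (Finset.mem_filter.1 ht).2
    refine ⟨⟨(t₀ : G)⁻¹ * t, T.mul_mem (T.inv_mem t₀.2) t.2, ?_⟩, Finset.mem_univ _,
      Subtype.ext (mul_inv_cancel_left _ _)⟩
    show (t₀ : G)⁻¹ * t ∈ C⟨Subgroup.zpowers (y : G)⟩
    rw [centralizer_zpowers, Subgroup.mem_centralizer_singleton_iff]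
    calc (t₀ : G)⁻¹ * t * y = (t₀ : G)⁻¹ * ((t : G) * y * (t : G)⁻¹) * t := by group
      _ = y * ((t₀ : G)⁻¹ * t) := by rw [ht']; group

/-- Weighted sums over invariant sets are whole numbers. -/
theorem exists_sum_orb (F : D → ℕ) (hF : ∀ y, ∀ y' ∈ orb D T y, F y' = F y) (S : Finset D)
    (hS : ∀ y ∈ S, orb D T y ⊆ S) :
    ∃ n : ℕ, ∑ y ∈ S, (F y : ℂ) / ((orb D T y).card : ℂ) = (n : ℂ) := by
  classical
  refine ⟨∑ o ∈ S.image (orb D T), if h : o.Nonempty then F h.choose else 0, ?_⟩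
  rw [← Finset.sum_fiberwise_of_maps_to (g := orb D T) (fun y hy => Finset.mem_image_of_mem _ hy),
    Nat.cast_sum]
  refine Finset.sum_congr rfl fun o ho => ?_
  obtain ⟨y₀, hy₀, rfl⟩ := Finset.mem_image.1 ho
  have hfib : S.filter (fun y => orb D T y = orb D T y₀) = orb D T y₀ := by
    ext z
    rw [Finset.mem_filter]
    exact ⟨fun h => h.2 ▸ self_mem_orb z, fun h => ⟨hS _ hy₀ h, orb_eq_of_mem h⟩⟩
  have hne : (orb D T y₀).Nonempty := ⟨y₀, self_mem_orb y₀⟩
  have hch : F hne.choose = F y₀ := hF _ _ hne.choose_spec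
  rw [hfib, dif_pos hne, hch, Finset.sum_congr rfl (g := fun _ => (F y₀ : ℂ) / ((orb D T y₀).card : ℂ))
    (fun z hz => by rw [orb_eq_of_mem hz, hF _ _ hz]), Finset.sum_const, nsmul_eq_mul]
  field_simp [Nat.cast_ne_zero.2 hne.card_pos.ne']

end Counting

variable {G : Type u} [Group G] [Fintype G] {M : Ideal AlgInt}

/-- A subgroup of odd order of the automorphisms of an abelian group of order eight is transitive
on the nonidentity elements or fixes a linear character of order two. -/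
theorem transitive_or_fixed {A : Type u} [CommGroup A] [Finite A] (hA : Nat.card A = 8)
    (E : Subgroup (MulAut A)) (hodd : ¬ 2 ∣ Nat.card E) :
    (∀ a b : A, a ≠ 1 → b ≠ 1 → ∃ σ ∈ E, σ a = b) ∨
      ∃ lam : A →* ℂˣ, lam ≠ 1 ∧ (∀ a, lam a = 1 ∨ lam a = -1) ∧ ∀ σ ∈ E, ∀ a, lam (σ a) = lam a := by
  classical
  letI := Fintype.ofFinite A
  have hfixcard : ∀ (q : ℕ) [Fact q.Prime] (σ : MulAut A), orderOf σ = q →
      Nat.card {a : A // σ a = a} ≡ 8 [MOD q] ∧ Nat.card {a : A // σ a = a} ∣ 8 ∧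
        Nat.card {a : A // σ a = a} ≠ 8 := by
    intro q _ σ hσ
    have hq : IsPGroup q (Subgroup.zpowers σ) := IsPGroup.of_card (n := 1) (by rw [Nat.card_zpowers, hσ, pow_one])
    let Fx : Subgroup A :=
      { carrier := {a | σ a = a}
        one_mem' := map_one σ
        mul_mem' := fun {a b} ha hb => by show σ (a * b) = a * b; rw [map_mul, ha, hb]
        inv_mem' := fun {a} ha => by show σ a⁻¹ = a⁻¹; rw [map_inv, ha] }
    refine ⟨?_, hA ▸ (show Nat.card Fx ∣ Nat.card A from Subgroup.card_subgroup_dvd_card _), fun h => ?_⟩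
    · have h1 := hq.card_modEq_card_fixedPoints A
      rw [hA] at h1
      suffices e : Nat.card {a : A // σ a = a} = Nat.card (MulAction.fixedPoints (Subgroup.zpowers σ) A) by
        rw [e]; exact h1.symm
      refine Nat.card_congr (Equiv.subtypeEquivRight fun a => ?_)
      rw [MulAction.mem_fixedPoints]
      constructor
      · rintro ha ⟨τ, j, rfl⟩
        show (σ ^ j : MulAut A) a = a
        have hst : σ ∈ MulAction.stabilizer (MulAut A) a := ha
        exact (Subgroup.zpow_mem _ hst j : σ ^ j ∈ MulAction.stabilizer (MulAut A) a)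
      · exact fun ha => ha ⟨σ, Subgroup.mem_zpowers σ⟩
    · have htop : Fx = ⊤ := Subgroup.eq_top_of_card_eq _ (h.trans hA.symm)
      have h1 : σ = 1 := MulEquiv.ext fun a => (htop ▸ Subgroup.mem_top a : a ∈ Fx)
      rw [h1, orderOf_one] at hσ
      exact (Fact.out : q.Prime).one_lt.ne hσ
  by_cases h7 : 7 ∣ Nat.card E
  · left
    haveI : Fact (Nat.Prime 7) := ⟨by norm_num⟩
    obtain ⟨σ', hσ'⟩ := exists_prime_orderOf_dvd_card' 7 h7
    have hσ : orderOf (σ' : MulAut A) = 7 := by rw [Subgroup.orderOf_coe, hσ']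
    set σ : MulAut A := (σ' : MulAut A) with hσdef
    obtain ⟨hmod, hdvd, hne⟩ := hfixcard 7 σ hσ
    intro a b ha hb
    have hfix : ∀ x, σ x = x → x = 1 := by
      intro x hx
      have h1 : Nat.card {a : A // σ a = a} = 1 := by
        have h8 : Nat.card {a : A // σ a = a} ≤ 8 := Nat.le_of_dvd (by omega) hdvd
        rw [Nat.ModEq] at hmod
        interval_cases h : Nat.card {a : A // σ a = a} <;> first | rfl | omega
      obtain ⟨u, hu⟩ := (Nat.card_eq_one_iff_exists).1 h1
      have e1 := hu ⟨x, hx⟩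
      have e2 := hu ⟨1, map_one σ⟩
      exact congrArg Subtype.val (e1.trans e2.symm)
    have hinj : Function.Injective (fun i : Fin 7 => (σ ^ (i : ℕ)) a) := by
      intro i j hij
      by_contra hne'
      wlog hlt : (i : ℕ) < (j : ℕ) generalizing i j
      · exact this hij.symm (Ne.symm hne') (lt_of_le_of_ne (not_lt.1 hlt) fun e => hne' (Fin.ext e.symm))
      simp only at hij
      have h2 : (σ ^ ((j : ℕ) - i)) a = a := by
        apply (σ ^ (i : ℕ)).injective
        rw [← MulAut.mul_apply, ← pow_add, Nat.add_sub_cancel' hlt.le, ← hij]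
      refine ha (hfix a ?_)
      obtain ⟨m, hm⟩ : ∃ m, (σ ^ ((j : ℕ) - i)) ^ m = σ := exists_pow_eq_self_of_coprime (by
        rw [hσ]
        exact ((Fact.out : Nat.Prime 7).coprime_iff_not_dvd.2 fun h => by
          have := j.2
          have := Nat.le_of_dvd (by omega) h
          omega).symm)
      have hst : σ ^ ((j : ℕ) - i) ∈ MulAction.stabilizer (MulAut A) a := h2
      have h3 : (σ ^ ((j : ℕ) - i)) ^ m ∈ MulAction.stabilizer (MulAut A) a := Subgroup.pow_mem _ hst m
      rw [hm] at h3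
      exact h3
    have himg : Finset.univ.image (fun i : Fin 7 => (σ ^ (i : ℕ)) a) = Finset.univ.erase 1 := by
      refine Finset.eq_of_subset_of_card_le (fun z hz => ?_) ?_
      · obtain ⟨i, -, rfl⟩ := Finset.mem_image.1 hz
        refine Finset.mem_erase.2 ⟨fun h => ha ?_, Finset.mem_univ _⟩
        exact (σ ^ (i : ℕ)).injective (h.trans (map_one (σ ^ (i : ℕ))).symm)
      · rw [Finset.card_image_of_injective _ hinj, Finset.card_erase_of_mem (Finset.mem_univ _),
          Finset.card_univ, Finset.card_univ, ← Nat.card_eq_fintype_card (α := A), hA, Fintype.card_fin]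
    have hb' : b ∈ Finset.univ.image (fun i : Fin 7 => (σ ^ (i : ℕ)) a) := by
      rw [himg]; exact Finset.mem_erase.2 ⟨hb, Finset.mem_univ _⟩
    obtain ⟨i, -, hi⟩ := Finset.mem_image.1 hb'
    exact ⟨σ ^ (i : ℕ), E.pow_mem σ'.2 _, hi⟩
  right
  haveI : Fact (Nat.Prime 3) := ⟨Nat.prime_three⟩
  have h3 : IsPGroup 3 E := by
    refine IsPGroup.of_card (n := (Nat.card E).primeFactorsList.length)
      (Nat.eq_prime_pow_of_unique_prime_dvd Nat.card_pos.ne' fun {q} hq hqE => ?_)
    by_contra h3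
    haveI := Fact.mk hq
    obtain ⟨σ', hσ'⟩ := exists_prime_orderOf_dvd_card' q hqE
    have hσ : orderOf (σ' : MulAut A) = q := by rw [Subgroup.orderOf_coe, hσ']
    have hle : q ≤ 8 := by
      have h1 : orderOf (MulAut.toPerm A (σ' : MulAut A)) = q := by
        rw [orderOf_injective (MulAut.toPerm A) (fun x y h => MulEquiv.ext fun a => Equiv.congr_fun h a), hσ]
      have h2 : q ∣ Nat.card (Equiv.Perm A) := h1 ▸ orderOf_dvd_natCard _
      rw [Nat.card_perm, hA] at h2
      exact (Nat.Prime.dvd_factorial hq).1 h2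
    obtain ⟨hmod, hdvd, hne⟩ := hfixcard q _ hσ
    have h8 : Nat.card {a : A // (σ' : MulAut A) a = a} ≤ 8 := Nat.le_of_dvd (by omega) hdvd
    rw [Nat.ModEq] at hmod
    interval_cases q <;> first
      | (norm_num at hq; done)
      | exact hodd hqE
      | exact h3 rfl
      | exact h7 hqE
      | (interval_cases h : Nat.card {a : A // (σ' : MulAut A) a = a} <;> omega)
  -- the action on the linear characters
  haveI : Finite (A →* ℂˣ) := Nat.finite_of_card_ne_zero (by
    rw [CommGroup.card_monoidHom_of_hasEnoughRootsOfUnity A ℂ, hA]; omega)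
  letI act : MulAction E (A →* ℂˣ) :=
    { smul := fun σ lam => lam.comp (σ : MulAut A).symm.toMonoidHom
      one_smul := fun lam => MonoidHom.ext fun a => rfl
      mul_smul := fun σ τ lam => MonoidHom.ext fun a => rfl }
  have hsmul : ∀ (σ : E) (lam : A →* ℂˣ) (a : A), (σ • lam) a = lam ((σ : MulAut A).symm a) :=
    fun σ lam a => rfl
  have hmod := h3.card_modEq_card_fixedPoints (A →* ℂˣ)
  rw [CommGroup.card_monoidHom_of_hasEnoughRootsOfUnity A ℂ, hA] at hmod
  have h1fix : (1 : A →* ℂˣ) ∈ MulAction.fixedPoints E (A →* ℂˣ) := fun σ => MonoidHom.ext fun a => rfl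
  obtain ⟨lam, hlam, hlam1⟩ : ∃ lam, lam ∈ MulAction.fixedPoints E (A →* ℂˣ) ∧ lam ≠ 1 := by
    by_contra h
    push Not at h
    have h1 : Nat.card (MulAction.fixedPoints E (A →* ℂˣ)) = 1 :=
      Nat.card_eq_one_iff_exists.2 ⟨⟨1, h1fix⟩, fun x => Subtype.ext (h _ x.2)⟩
    rw [h1, Nat.ModEq] at hmod
    omega
  have hinv : ∀ σ ∈ E, ∀ a, lam (σ a) = lam a := fun σ hσ a => by
    have := DFunLike.congr_fun (hlam ⟨σ, hσ⟩) (σ a)
    rw [hsmul, MulEquiv.symm_apply_apply] at this
    exact this.symm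
  have h8 : ∀ a, lam a ^ 8 = 1 := fun a => by rw [← map_pow, ← hA, pow_card_eq_one', map_one]
  have hex : ∃ j, j ≤ 3 ∧ lam ^ (2 ^ j) = 1 :=
    ⟨3, le_rfl, MonoidHom.ext fun a => by rw [MonoidHom.pow_apply, MonoidHom.one_apply]; exact h8 a⟩
  obtain ⟨j, hj, hjne⟩ : ∃ j, (lam ^ 2 ^ j) ^ 2 = 1 ∧ lam ^ 2 ^ j ≠ 1 := by
    obtain ⟨j, hj⟩ : ∃ j, Nat.find hex = j + 1 := by
      refine ⟨Nat.find hex - 1, (Nat.sub_add_cancel ?_).symm⟩
      by_contra h
      have h0 := (Nat.find_spec hex).2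
      rw [show Nat.find hex = 0 by omega, pow_zero, pow_one] at h0
      exact hlam1 h0
    refine ⟨j, ?_, fun h => ?_⟩
    · rw [← pow_mul, ← pow_succ, ← hj]; exact (Nat.find_spec hex).2
    · have h0 := Nat.find_spec hex
      exact Nat.find_min hex (show j < Nat.find hex by omega) ⟨by omega, h⟩
  refine ⟨lam ^ 2 ^ j, hjne, fun a => ?_, fun σ hσ a => by
    rw [MonoidHom.pow_apply, MonoidHom.pow_apply, hinv σ hσ]⟩
  have h2 := DFunLike.congr_fun hj a
  rw [MonoidHom.one_apply, MonoidHom.pow_apply, ← Units.val_inj, Units.val_pow_eq_pow_val,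
    Units.val_one, sq_eq_one_iff] at h2
  rcases h2 with h2 | h2
  · exact Or.inl (Units.ext h2)
  · exact Or.inr (Units.ext (by rw [h2]; simp))

/-- **The exclusion.** -/
theorem false_of_abelian_eight (hM : IsPModular 2 M) {B : Set (IrrCharacter G)} (hB : IsPBlock M B)
    {D : Subgroup G} (hD : IsDefectGroup 2 M B D) (hab : ∀ a ∈ D, ∀ b ∈ D, a * b = b * a)
    (h8 : Nat.card D = 8) (hl : blockRank 2 B = 1) (hk : Nat.card B = 5) : False := by
  classical
  haveI : Fact (Nat.Prime 2) := ⟨Nat.prime_two⟩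
  obtain ⟨T, c, s⟩ := RankTwo.exists_abPair hM hB hD hab
  have hc := s.pair
  have hT := s.stab
  have hPC : D ≤ C⟨D⟩ := fun x hx => Subgroup.mem_centralizer_iff.2 fun y hy => hab y hy x hx
  letI := Fintype.ofFinite C⟨D⟩
  obtain ⟨-, hCT⟩ := hT.self_le hM hc.1.2
  have hex : ∀ y : G, ∃ f, y ∈ D → IsBelow M D c y f := fun y => by
    by_cases hy : y ∈ D
    · obtain ⟨f, hf⟩ := exists_below hM hc.1 hab hy
      exact ⟨f, fun _ => hf⟩
    · exact ⟨∅, fun h => absurd h hy⟩
  choose fb hfb using hex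
  set F : D → ℕ := fun y => blockRank 2 (fb y) with hF
  have hrank : ∀ (z z' : G) (a : Set (IrrCharacter C⟨Subgroup.zpowers z⟩))
      (b : Set (IrrCharacter C⟨Subgroup.zpowers z'⟩)), z = z' → z' ∈ D →
      IsBelow M D c z a → IsBelow M D c z' b → blockRank 2 a = blockRank 2 b := by
    rintro z _ a b rfl hz ha hb
    rw [ha.unique hM hc.1 hab hz hb]
  have hFinv : ∀ y, ∀ y' ∈ orb D T y, F y' = F y := by
    intro y y' hy'
    obtain ⟨t, ht, hty⟩ := mem_orb.1 hy'
    letI := Fintype.ofFinite C⟨Subgroup.zpowers (y : G)⟩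
    rw [hF]
    simp only
    rw [← hrank _ _ _ _ hty y'.2 ((hfb _ y.2).conj hM hc.1 hT ht) (hfb _ y'.2)]
    exact blockRank_eq_of_cj hM (isConjSub_zpowers t (y : G)) (hfb _ y.2).1
      (IsPBlock.conjSet (isConjSub_zpowers t (y : G)) (hfb _ y.2).1)
      (bi_conjSet (isConjSub_zpowers t (y : G)) (fb y)).symm
  have hn : ∀ t ∈ T, t ∈ Subgroup.normalizer (D : Set G) := fun t ht => hT.le_normalizer ht
  have hterm : ∀ y : D, (Nat.card (T ⊓ C⟨Subgroup.zpowers (y : G)⟩ : Subgroup G) : ℂ) / Nat.card T *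
      (F y : ℂ) = (F y : ℂ) / ((orb D T y).card : ℂ) := fun y => by
    have h := card_orb_mul (T := T) hn y
    rw [← h, Nat.cast_mul]
    have h0 : (Nat.card (T ⊓ C⟨Subgroup.zpowers (y : G)⟩ : Subgroup G) : ℂ) ≠ 0 :=
      Nat.cast_ne_zero.2 Nat.card_pos.ne'
    have h1 : ((orb D T y).card : ℂ) ≠ 0 :=
      Nat.cast_ne_zero.2 (Finset.card_pos.2 ⟨y, self_mem_orb y⟩).ne'
    field_simp
  have htrace : ∀ lam : D →* ℂˣ, (∀ (t : G) (y y' : D), t ∈ T → t * (y : G) * t⁻¹ = y' → lam y' = lam y) →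
      ∑ y : D, ((lam y : ℂˣ) : ℂ) * ((F y : ℂ) / ((orb D T y).card : ℂ)) =
        if lam = 1 then (5 : ℂ) else 0 := fun lam hlam => by
    have h := trace_formula hM hD hc hab hT fb hfb hlam
    rw [hk, Nat.cast_ofNat] at h
    rw [← h]
    exact Finset.sum_congr rfl fun y _ => by rw [← hterm y]
  -- the inertial automorphisms
  letI : CommGroup D := { (inferInstance : Group D) with
    mul_comm := fun a b => Subtype.ext (hab _ a.2 _ b.2) }
  let ρ : T →* MulAut D := D.normalizerMonoidHom.comp (Subgroup.inclusion hT.le_normalizer)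
  have hρ : ∀ (t : T) (y : D), ((ρ t y : D) : G) = (t : G) * y * (t : G)⁻¹ := fun t y => rfl
  have hodd : ¬ 2 ∣ Nat.card ρ.range := by
    have hker : ρ.ker = C⟨D⟩.subgroupOf T := by
      rw [← MonoidHom.comap_ker, Subgroup.normalizerMonoidHom_ker]
      rfl
    rw [← Subgroup.index_ker, hker]
    exact not_dvd_inertial_index hM hD hPC ((isBrauerPairOf_iff hM B D c).1 hc).2 hT
  rcases transitive_or_fixed h8 ρ.range hodd with htr | ⟨lam, hlam1, hpm, hlinv⟩
  swap
  · -- a fixed character makes the number of characters even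
    have hlam : ∀ (t : G) (y y' : D), t ∈ T → t * (y : G) * t⁻¹ = y' → lam y' = lam y :=
      fun t y y' ht hty => by
        rw [show y' = ρ ⟨t, ht⟩ y from Subtype.ext hty.symm]
        exact hlinv _ ⟨_, rfl⟩ y
    have hA := htrace 1 fun _ _ _ _ _ => rfl
    have hB' := htrace lam hlam
    rw [if_pos rfl] at hA
    rw [if_neg hlam1] at hB'
    set S := Finset.univ.filter (fun y : D => lam y = 1) with hS
    obtain ⟨m, hm⟩ := exists_sum_orb F hFinv S fun y hy z hz => by
      obtain ⟨t, ht, htz⟩ := mem_orb.1 hz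
      rw [hS, Finset.mem_filter] at hy ⊢
      exact ⟨Finset.mem_univ _, (hlam t y z ht htz).trans hy.2⟩
    have hsum : (5 : ℂ) = 2 * (m : ℂ) := by
      rw [← hm, ← add_zero (5 : ℂ), ← hA, ← hB', ← Finset.sum_add_distrib,
        hS, Finset.sum_filter, Finset.mul_sum]
      refine Finset.sum_congr rfl fun y _ => ?_
      rcases hpm y with h | h <;> rw [h]
      · simp [two_mul]
      · rw [if_neg (fun h' => ?_)]
        · simp
        · exact absurd (congrArg Units.val h') (by norm_num)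
    have : (5 : ℕ) = 2 * m := by exact_mod_cast hsum
    omega
  -- transitive
  obtain ⟨y₀', hy₀'⟩ := exists_prime_orderOf_dvd_card' (G := D) 2 (by rw [h8]; norm_num)
  set y₀ : D := y₀' with hy₀def
  have hy₀ : orderOf y₀ = 2 := hy₀'
  have hy₀1 : y₀ ≠ 1 := fun h => by rw [h, orderOf_one] at hy₀; omega
  have hmove : ∀ y : D, y ≠ 1 → ∃ t : T, ρ t y₀ = y := fun y hy => by
    obtain ⟨σ, ⟨t, rfl⟩, hσ⟩ := htr y₀ y hy₀1 hy
    exact ⟨t, hσ⟩
  have horb : orb D T y₀ = Finset.univ.erase 1 := by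
    ext y
    rw [mem_orb, Finset.mem_erase]
    constructor
    · rintro ⟨t, ht, hty⟩
      refine ⟨fun h => hy₀1 (Subtype.ext ?_), Finset.mem_univ _⟩
      rw [h, OneMemClass.coe_one, conj_eq_one_iff] at hty
      simpa using hty
    · rintro ⟨hy, -⟩
      obtain ⟨t, ht⟩ := hmove y hy
      exact ⟨t, t.2, by rw [← hρ, ht]⟩
  have hcard7 : (orb D T y₀).card = 7 := by
    rw [horb, Finset.card_erase_of_mem (Finset.mem_univ _), Finset.card_univ,
      ← Nat.card_eq_fintype_card, h8]
  have hA := htrace 1 fun _ _ _ _ _ => rfl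
  rw [if_pos rfl, ← Finset.add_sum_erase _ _ (Finset.mem_univ (1 : D))] at hA
  simp only [MonoidHom.one_apply, Units.val_one, one_mul] at hA
  have horb1 : orb D T 1 = {1} := by
    ext y
    rw [mem_orb, Finset.mem_singleton]
    constructor
    · rintro ⟨t, -, hty⟩
      exact Subtype.ext (by simpa using hty.symm)
    · rintro rfl
      exact ⟨1, T.one_mem, by simp⟩
  have hF1 : F 1 = 1 := by
    rw [hF]
    exact ((watanabe_aux hM _ G rfl B D c hD hc hab T hT (1 : G) D.one_mem (fun t _ => by simp)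
      (fb 1) (hfb 1 D.one_mem)).1).symm.trans hl
  rw [horb1, hF1, Finset.card_singleton, Nat.cast_one, div_one, ← horb,
    Finset.sum_congr rfl (g := fun _ => (F y₀ : ℂ) / 7) (fun y hy => by
      rw [hFinv _ _ hy, orb_eq_of_mem hy, hcard7]; norm_num),
    Finset.sum_const, hcard7, nsmul_eq_mul] at hA
  have hF4 : F y₀ = 4 := by
    have e : (F y₀ : ℂ) = 4 := by
      push_cast at hA
      linear_combination hA
    exact_mod_cast e
  -- at most three modular characters over an involution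
  have hsq : ∀ a ∈ D, a * a = 1 := by
    intro a ha
    by_cases h1 : (⟨a, ha⟩ : D) = 1
    · rw [show a = 1 from congrArg Subtype.val h1, one_mul]
    obtain ⟨t, ht⟩ := hmove _ h1
    have h2 : (⟨a, ha⟩ : D) ^ 2 = 1 := by rw [← ht, ← map_pow, ← hy₀, pow_orderOf_eq_one, map_one]
    rw [← pow_two]
    exact congrArg Subtype.val h2
  set K := C⟨Subgroup.zpowers (y₀ : G)⟩ with hK
  letI := Fintype.ofFinite K
  have hDK : D ≤ K := le_centralizer_zpowers hab y₀.2
  obtain ⟨hfD, -⟩ := (hfb _ y₀.2).defect hM hD hc hab y₀.2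
  set yK : K := ⟨y₀, hDK y₀.2⟩ with hyK
  have hyc : yK ∈ Subgroup.center K := Subgroup.mem_center_iff.2 fun a => Subtype.ext (by
    exact (Subgroup.mem_centralizer_iff.1 a.2 _ (Subgroup.mem_zpowers (y₀ : G))).symm)
  have hyo : orderOf yK = 2 := by
    rw [hyK, Subgroup.orderOf_mk, Subgroup.orderOf_coe, hy₀]
  haveI hnorm : (Subgroup.zpowers yK).Normal := ⟨fun b hb a => by
    rwa [Subgroup.mem_center_iff.1 (Subgroup.zpowers_le.2 hyc hb) a, mul_inv_cancel_right]⟩
  letI := Fintype.ofFinite (K ⧸ Subgroup.zpowers yK)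
  obtain ⟨fbar, hfb', hle, hdef⟩ := RankTwo.exists_quotient_rank_le hM (hfb _ y₀.2).1 hyc hyo
  have hDbar := hdef _ hfD
  set Dbar := (D.subgroupOf K).map (QuotientGroup.mk' (Subgroup.zpowers yK))
  have hcard4 : Nat.card Dbar = 4 := by
    have hND : Subgroup.zpowers yK ≤ D.subgroupOf K := Subgroup.zpowers_le.2 y₀.2
    have h4 := ((Subgroup.zpowers yK).subgroupOf (D.subgroupOf K)).card_mul_index
    rw [Nat.card_congr (Subgroup.subgroupOfEquivOfLe hND).toEquiv, Nat.card_zpowers, hyo,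
      Nat.card_congr (Subgroup.subgroupOfEquivOfLe hDK).toEquiv, h8] at h4
    have h5 : Nat.card Dbar = ((Subgroup.zpowers yK).subgroupOf (D.subgroupOf K)).index := by
      rw [show Dbar = ((QuotientGroup.mk' (Subgroup.zpowers yK)).comp (D.subgroupOf K).subtype).range by
        rw [MonoidHom.range_comp, Subgroup.range_subtype], ← Subgroup.index_ker, ← MonoidHom.comap_ker,
        QuotientGroup.ker_mk']
      rfl
    omega
  have hV : IsKleinFour Dbar := ⟨hcard4, by
    refine ((Nat.dvd_prime Nat.prime_two).1 (Monoid.exponent_dvd_of_forall_pow_eq_one fun z => ?_)).resolve_left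
      fun h => ?_
    · obtain ⟨_, a, ha, rfl⟩ := z
      refine Subtype.ext ?_
      show (QuotientGroup.mk' (Subgroup.zpowers yK) a) ^ 2 = 1
      rw [← map_pow, pow_two, show a * a = 1 from Subtype.ext (hsq _ ha), map_one]
    · haveI := Monoid.exp_eq_one_iff.1 h
      rw [Nat.card_eq_one_iff_unique.2 ⟨inferInstance, inferInstance⟩] at hcard4
      omega⟩
  obtain ⟨T', c', s'⟩ := RankTwo.exists_abPair hM hfb' hDbar (klein_abelian hV)
  obtain ⟨he, -, hrk⟩ := klein_block hM hDbar hV s'.pair s'.stab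
  have h3 : blockRank 2 fbar ≤ 3 := by rcases he with he | he <;> omega
  have hF4' : blockRank 2 (fb (y₀ : G)) = 4 := hF4
  omega

end Cfsg.Lib.Blocks.RankOneFive
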